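import Cfsg.Agent.SignalizerMethod.Reduction
import Cfsg.Agent.Cores.Local
import Cfsg.Agent.Constrained.HallHigman
import Cfsg.Agent.PConstrainedLocals.Basic
import Cfsg.Agent.GlaubermanZJ.AxB
import Cfsg.Agent.LocalP.Basic

/-!
The signalizer functor method for a Sylow 2-subgroup with connected four-group graph
(Gorenstein-Walter): noncomponent type and connectedness give characteristic two type.
-/

set_option autoImplicit false

namespace CfsgLib.SignalizerMethod

open Cfsg CfsgLib CfsgLib.Coprime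

universe u

/-- A group without component modulo its core is 2-constrained. -/
theorem isPConstrained_of_not_hasComponent {C : Type u} [Group C] [Finite C]
    (h : ¬ HasComponent (C ⧸ oddCore C)) : IsPConstrained 2 C := by
  have : Fact (Nat.Prime 2) := ⟨Nat.prime_two⟩
  rw [Cores.isPConstrained_iff_pLayer_eq_bot, Cores.pLayer_eq_bot_iff, Cores.layer_eq_bot_iff]
  exact fun L hL => h ⟨L, hL.1, hL.2⟩

variable {G : Type u} [Group G] [Finite G] {θ : G → Subgroup G} {S : Sylow 2 G}

/-- In a four-connected Sylow subgroup of rank at least three the closures of all four-groups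
agree, and every involution lies in an elementary subgroup of order eight. -/
theorem cl_connected (hSF : BalanceNineteen.SignalizerFunctorTheorem.{u}) (hθ : FunctorData θ)
    (hcon : IsFourConnected (S : Subgroup G)) (h3 : ¬ PRankLE 2 2 G) :
    ∃ W : Subgroup G, ¬ 2 ∣ Nat.card W ∧
      (∀ t ∈ (S : Subgroup G), IsInv t → θ t ≤ W) ∧
      (∀ X : Subgroup G, X ≤ (S : Subgroup G) → HasFour X → cl θ X = W) ∧
      (∀ t ∈ (S : Subgroup G), IsInv t → ∃ F : Subgroup G, IsElementaryAbelian 2 F ∧
        2 ^ 3 ≤ Nat.card F ∧ t ∈ F ∧ F ≤ (S : Subgroup G)) := by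
  classical
  have : Fact (Nat.Prime 2) := ⟨Nat.prime_two⟩
  -- an elementary subgroup of order at least eight of `S`
  obtain ⟨E, hE, hEc, hES⟩ : ∃ E : Subgroup G, IsElementaryAbelian 2 E ∧ 2 ^ 3 ≤ Nat.card E ∧
      E ≤ (S : Subgroup G) := by
    unfold PRankLE at h3
    push Not at h3
    obtain ⟨B, hBc, hBe, hBk⟩ := h3
    have hB : IsElementaryAbelian 2 B := ⟨hBc, hBe⟩
    obtain ⟨S', hS'⟩ := (Uniqueness.isPGroup_of_elementary hB).exists_le_sylow
    obtain ⟨g, hg⟩ := MulAction.exists_smul_eq G S' S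
    refine ⟨B.map (MulAut.conj g).toMonoidHom, ⟨Uniqueness.comm_map _ hBc, ?_⟩, ?_, ?_⟩
    · rintro _ ⟨b, hb, rfl⟩
      rw [← map_pow, hBe b hb, map_one]
    · rw [Subgroup.card_map_of_injective (MulAut.conj g).injective]
      obtain ⟨k, hk⟩ := IsPGroup.iff_card.mp (Uniqueness.isPGroup_of_elementary hB)
      rw [hk] at hBk ⊢
      exact Nat.pow_le_pow_right two_pos ((Nat.pow_lt_pow_iff_right one_lt_two).mp hBk)
    · rintro _ ⟨b, hb, rfl⟩
      rw [← hg]
      exact ⟨b, hS' hb, rfl⟩
  set W := cl θ E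
  -- every four-group of `S` has closure `W` and lies in an elementary subgroup of order eight
  let P : Subgroup G → Prop := fun V => cl θ V = W ∧ ∃ F : Subgroup G,
    IsElementaryAbelian 2 F ∧ 2 ^ 3 ≤ Nat.card F ∧ V ≤ F ∧ F ≤ (S : Subgroup G)
  have sub4 : ∀ a b : G, a ∈ (S : Subgroup G) → b ∈ (S : Subgroup G) → IsInv a → IsInv b →
      a * b = b * a → a ≠ b → ∃ U : Subgroup ↥(S : Subgroup G), IsKleinFour U ∧
        U.map (S : Subgroup G).subtype = Subgroup.zpowers a ⊔ Subgroup.zpowers b := by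
    intro a b ha hb hai hbi hab hne
    obtain ⟨hV, hV4⟩ := pair_elementary hai hbi hab hne
    set V := Subgroup.zpowers a ⊔ Subgroup.zpowers b
    have hVS : V ≤ (S : Subgroup G) := sup_le (Subgroup.zpowers_le.mpr ha) (Subgroup.zpowers_le.mpr hb)
    have hV4' : Nat.card V = 4 := by
      refine le_antisymm ?_ hV4
      have hle : V ≤ Subgroup.closure {a, b} := sup_le
        (Subgroup.zpowers_le.mpr (Subgroup.subset_closure (by simp)))
        (Subgroup.zpowers_le.mpr (Subgroup.subset_closure (by simp)))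
      have hset : (V : Set G) ⊆ ({1, a, b, a * b} : Finset G) := by
        intro x hx
        have h : ∀ y ∈ Subgroup.closure ({a, b} : Set G), y = 1 ∨ y = a ∨ y = b ∨ y = a * b := by
          intro y hy
          have haa := hai.2
          have hbb := hbi.2
          have h1 : ∀ z, a * (a * z) = z := fun z => by rw [← mul_assoc, haa, one_mul]
          have h2 : ∀ z, b * (b * z) = z := fun z => by rw [← mul_assoc, hbb, one_mul]
          have h3 : ∀ z, b * (a * z) = a * (b * z) := fun z => by rw [← mul_assoc, ← hab, mul_assoc]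
          induction hy using Subgroup.closure_induction with
          | mem x hx =>
            simp only [Set.mem_insert_iff, Set.mem_singleton_iff] at hx
            tauto
          | one => exact Or.inl rfl
          | mul x y _ _ hx hy =>
            rcases hx with rfl | rfl | rfl | rfl <;> rcases hy with rfl | rfl | rfl | rfl <;>
              simp only [one_mul, mul_one, mul_assoc, haa, hbb, ← hab, h1, h3, true_or, or_true]
          | inv x _ hx =>
            have ha' : a⁻¹ = a := inv_eq_of_mul_eq_one_right haa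
            have hb' : b⁻¹ = b := inv_eq_of_mul_eq_one_right hbb
            rcases hx with rfl | rfl | rfl | rfl <;>
              simp only [inv_one, mul_inv_rev, ha', hb', ← hab, true_or, or_true]
        rcases h x (hle hx) with rfl | rfl | rfl | rfl <;> simp
      calc Nat.card V ≤ Nat.card ↥(({1, a, b, a * b} : Finset G) : Set G) :=
            Nat.card_mono (Finset.finite_toSet _) hset
        _ ≤ 4 := by rw [Nat.card_coe_set_eq, Set.ncard_coe_finset]; exact Finset.card_le_four
    refine ⟨V.subgroupOf (S : Subgroup G), ?_, Subgroup.map_subgroupOf_eq_of_le hVS⟩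
    have hc : Nat.card ↥(V.subgroupOf (S : Subgroup G)) = 4 := by
      rw [Nat.card_congr (Subgroup.subgroupOfEquivOfLe hVS).toEquiv, hV4']
    refine ⟨hc, ?_⟩
    have hne' : Nontrivial ↥(V.subgroupOf (S : Subgroup G)) :=
      Finite.one_lt_card_iff_nontrivial.mp (by omega)
    have hdvd : Monoid.exponent ↥(V.subgroupOf (S : Subgroup G)) ∣ 2 :=
      Monoid.exponent_dvd_of_forall_pow_eq_one fun x => by
        apply Subtype.ext; apply Subtype.ext
        exact hV.2 _ x.2
    rcases (Nat.dvd_prime Nat.prime_two).mp hdvd with h | h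
    · exact absurd (Monoid.exp_eq_one_iff.mp h) (not_subsingleton _)
    · exact h
  have klein : ∀ U : Subgroup ↥(S : Subgroup G), IsKleinFour U →
      IsElementaryAbelian 2 (U.map (S : Subgroup G).subtype) ∧
        Nat.card (U.map (S : Subgroup G).subtype) = 4 := by
    intro U hU
    refine ⟨⟨Uniqueness.comm_map _ IsKleinFour.isMulCommutative, ?_⟩, ?_⟩
    · rintro _ ⟨x, hx, rfl⟩
      have h := Monoid.pow_exponent_eq_one (⟨x, hx⟩ : U)
      rw [hU.exponent_two] at h
      rw [← map_pow, show x ^ 2 = 1 from congrArg Subtype.val h, map_one]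
    · rw [Subgroup.card_map_of_injective (Subgroup.subtype_injective _), hU.card_four]
  have step : ∀ U V : Subgroup ↥(S : Subgroup G),
      IsKleinFour U → IsKleinFour V → (∀ a ∈ U, ∀ b ∈ V, a * b = b * a) →
      P (U.map (S : Subgroup G).subtype) → P (V.map (S : Subgroup G).subtype) := by
    intro U V hU hV huv hPU
    obtain ⟨hU', hU4⟩ := klein U hU
    obtain ⟨hV', hV4⟩ := klein V hV
    set U₁ := U.map (S : Subgroup G).subtype
    set V₁ := V.map (S : Subgroup G).subtype
    by_cases hVU : V₁ ≤ U₁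
    · rwa [Subgroup.eq_of_le_of_card_ge hVU (by rw [hU4, hV4])]
    have hF : IsElementaryAbelian 2 (U₁ ⊔ V₁) := Uniqueness.elementary_sup hU' hV' (by
      rintro _ ⟨a, ha, rfl⟩ _ ⟨b, hb, rfl⟩
      exact congrArg Subtype.val (huv a ha b hb))
    have hFc : 2 ^ 3 ≤ Nat.card ↥(U₁ ⊔ V₁) := by
      have h1 := BalanceNineteen.two_mul_card_le hF hVU
      omega
    have h5 := (cl_elementary hSF hθ hF hFc).2
    exact ⟨by rw [h5 V₁ le_sup_right (by omega), ← h5 U₁ le_sup_left (by omega)]; exact hPU.1,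
      _, hF, hFc, le_sup_right, sup_le (Subgroup.map_subtype_le _) (Subgroup.map_subtype_le _)⟩
  -- the base four-group
  obtain ⟨a₀, ha₀, b₀, hb₀, ha₀i, hb₀i, hab₀, hne₀⟩ :=
    hasFour_of_elementary hE (le_trans (by norm_num) hEc)
  obtain ⟨U₀, hU₀, hU₀eq⟩ := sub4 a₀ b₀ (hES ha₀) (hES hb₀) ha₀i hb₀i hab₀ hne₀
  have hP₀ : P (U₀.map (S : Subgroup G).subtype) := by
    rw [hU₀eq]
    exact ⟨(cl_elementary hSF hθ hE hEc).2 _
      (sup_le (Subgroup.zpowers_le.mpr ha₀) (Subgroup.zpowers_le.mpr hb₀))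
      (pair_elementary ha₀i hb₀i hab₀ hne₀).2,
      E, hE, hEc, sup_le (Subgroup.zpowers_le.mpr ha₀) (Subgroup.zpowers_le.mpr hb₀), hES⟩
  have hPV : ∀ a b : G, a ∈ (S : Subgroup G) → b ∈ (S : Subgroup G) → IsInv a → IsInv b →
      a * b = b * a → a ≠ b → P (Subgroup.zpowers a ⊔ Subgroup.zpowers b) := by
    intro a b ha hb hai hbi hab hne
    obtain ⟨U, hU, hUeq⟩ := sub4 a b ha hb hai hbi hab hne
    rw [← hUeq]
    have h := hcon U₀ U hU₀ hU
    clear hU hUeq
    induction h with
    | refl => exact hP₀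
    | tail _ h2 ih => exact step _ _ h2.1 h2.2.1 h2.2.2 ih
  -- every involution of `S` lies in a four-group of `S`
  have inFour : ∀ t ∈ (S : Subgroup G), IsInv t →
      ∃ b ∈ (S : Subgroup G), IsInv b ∧ t * b = b * t ∧ t ≠ b := by
    intro t htS ht
    have hS1 : (S : Subgroup G) ≠ ⊥ := fun h => by
      rw [h, Subgroup.mem_bot] at htS
      exact ht.1 htS
    obtain ⟨z, hzS, hz2, hz⟩ := LocalCharP.exists_central_orderOf_eq S.isPGroup' hS1
    by_cases htz : t = z
    · obtain ⟨b, hb, hbi, hbz⟩ : ∃ b ∈ E, IsInv b ∧ z ≠ b := by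
        by_cases h : z = a₀
        · exact ⟨b₀, hb₀, hb₀i, h ▸ hne₀⟩
        · exact ⟨a₀, ha₀, ha₀i, h⟩
      refine ⟨b, hES hb, hbi, ?_, htz ▸ hbz⟩
      rw [htz]
      exact (hz b (hES hb)).symm
    · exact ⟨z, hzS, isInv_of_orderOf hz2, hz t htS, htz⟩
  have inv : ∀ t ∈ (S : Subgroup G), IsInv t → θ t ≤ W := by
    intro t htS ht
    obtain ⟨b, hb, hbi, htb, hne⟩ := inFour t htS ht
    rw [← (hPV t b htS hb ht hbi htb hne).1]
    exact le_cl (Subgroup.mem_sup_left (Subgroup.mem_zpowers t)) ht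
  refine ⟨W, (cl_elementary hSF hθ hE hEc).1, inv, fun X hXS hX => ?_, fun t htS ht => ?_⟩
  · obtain ⟨f, hf, g, hg, hfi, hgi, hfg, hne⟩ := hX
    refine le_antisymm (cl_le fun a ha hi => inv a (hXS ha) hi) ?_
    rw [← (hPV f g (hXS hf) (hXS hg) hfi hgi hfg hne).1]
    exact cl_mono (sup_le (Subgroup.zpowers_le.mpr hf) (Subgroup.zpowers_le.mpr hg))
  · obtain ⟨b, hb, hbi, htb, hne⟩ := inFour t htS ht
    obtain ⟨-, F, hF, hFc, hle, hFS⟩ := hPV t b htS hb ht hbi htb hne
    exact ⟨F, hF, hFc, hle (Subgroup.mem_sup_left (Subgroup.mem_zpowers t)), hFS⟩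

/-- Gorenstein and Walter: a connected Sylow 2-subgroup and noncomponent type give trivial cores. -/
theorem core_trivial_of_connected (hFT : BalanceNineteen.OddOrderSolvable.{u})
    (hSF : BalanceNineteen.SignalizerFunctorTheorem.{u}) (hSE' : StronglyEmbeddedCore.{u})
    (hO : oddCore G = ⊥) (hcon : IsFourConnected (S : Subgroup G)) (h3 : ¬ PRankLE 2 2 G)
    (hc : ∀ t : G, IsInv t → IsPConstrained 2 ↥(Subgroup.centralizer ({t} : Set G)))
    {t : G} (ht : IsInv t) : centralizerPPrimeCore 2 t = ⊥ := by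
  have : Fact (Nat.Prime 2) := ⟨Nat.prime_two⟩
  set θ : G → Subgroup G := centralizerPPrimeCore 2 with hθdef
  have hθ : FunctorData θ :=
    { le_centralizer := fun _ _ _ a _ _ => CfsgLib.Signalizer.centralizerPPrimeCore_le a
      not_dvd := fun _ _ _ a _ _ => CfsgLib.Signalizer.centralizerPPrimeCore_not_dvd a
      solvable := fun _ _ _ a _ _ => hFT _ (BalanceNineteen.centralizerPPrimeCore_odd a)
      balance := fun F hF _ a ha ha1 b hb hb1 =>
        CfsgLib.Signalizer.centralizerPPrimeCore_inf_le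
          (BalanceNineteen.isPGroup_zpowers_of_sq (hF.2 a ha))
          (Subgroup.mem_centralizer_singleton_iff.mpr (comm_of_mem hF ha hb))
          (hc b (isInv_of_mem hF hb hb1))
      equivariant := fun g a => by
        apply le_antisymm
        · have h := CfsgLib.Cores.map_centralizerPPrimeCore_le (p := 2) (MulAut.conj g⁻¹)
            (g * a * g⁻¹)
          rw [show MulAut.conj g⁻¹ (g * a * g⁻¹) = a by simp [mul_assoc]] at h
          intro x hx
          refine ⟨g⁻¹ * x * g, ?_, by simp [mul_assoc]⟩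
          exact h ⟨x, hx, by simp⟩
        · exact CfsgLib.Cores.map_centralizerPPrimeCore_le (MulAut.conj g) a }
  obtain ⟨W, hodd, hinv, hall, height⟩ := cl_connected hSF hθ hcon h3
  set M := Subgroup.normalizer (W : Set G) with hM'
  -- conjugation between subgroups of `S` containing a four-group lies in `M`
  have hconj : ∀ X : Subgroup G, X ≤ (S : Subgroup G) → HasFour X → ∀ g : G,
      X.map (MulAut.conj g).toMonoidHom ≤ (S : Subgroup G) → g ∈ M := by
    intro X hXS hX g hgX
    obtain ⟨a, ha, b, hb, hai, hbi, hab, hne⟩ := hX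
    have hX' : HasFour (X.map (MulAut.conj g).toMonoidHom) :=
      ⟨g * a * g⁻¹, ⟨a, ha, rfl⟩, g * b * g⁻¹, ⟨b, hb, rfl⟩, hai.conj g, hbi.conj g, by
        show g * a * g⁻¹ * (g * b * g⁻¹) = g * b * g⁻¹ * (g * a * g⁻¹)
        calc g * a * g⁻¹ * (g * b * g⁻¹) = g * (a * b) * g⁻¹ := by group
          _ = g * b * g⁻¹ * (g * a * g⁻¹) := by rw [hab]; group, fun h => hne (by simpa using h)⟩
    rw [hM', Subgroup.mem_normalizer_iff_map_conj_eq]
    conv_lhs => rw [← hall X hXS ⟨a, ha, b, hb, hai, hbi, hab, hne⟩]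
    exact (map_cl hθ g X).trans (hall _ hgX hX')
  -- involution centralizers of `S` lie in `M`
  have hC : ∀ s ∈ (S : Subgroup G), IsInv s → Subgroup.centralizer ({s} : Set G) ≤ M := by
    intro s hsS hs
    obtain ⟨F, hF, hFc, hsF, hFS⟩ := height s hsS hs
    set C := Subgroup.centralizer ({s} : Set G)
    have hFC : F ≤ C := fun x hx => Subgroup.mem_centralizer_singleton_iff.mpr (comm_of_mem hF hx hsF)
    have hF₀ : IsPGroup 2 (F.subgroupOf C) := (Uniqueness.isPGroup_of_elementary hF).comap_of_injective _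
      C.subtype_injective
    obtain ⟨T, hT⟩ := hF₀.exists_le_sylow
    have hFT' : F ≤ (T : Subgroup C).map C.subtype := fun x hx => ⟨⟨x, hFC hx⟩, hT hx, rfl⟩
    have hF4 := hasFour_of_elementary hF (le_trans (by norm_num) hFc)
    obtain ⟨S', hS'⟩ := (T.isPGroup'.map C.subtype).exists_le_sylow
    obtain ⟨g, hg⟩ := MulAction.exists_smul_eq G S' S
    have hTg : ((T : Subgroup C).map C.subtype).map (MulAut.conj g).toMonoidHom ≤ (S : Subgroup G) := by
      rintro _ ⟨x, hx, rfl⟩
      rw [← hg]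
      exact ⟨x, hS' hx, rfl⟩
    have hgM : g ∈ M := hconj F hFS hF4 g ((Subgroup.map_mono hFT').trans hTg)
    refine le_of_constrained (hc s hs) T hF hFc hFT' ((hinv s hsS hs).trans Subgroup.le_normalizer)
      fun Y hY hY4 n hn => ?_
    obtain ⟨a, ha, b, hb, hai, hbi, hab, hne⟩ := hY4
    set Y' := Y.map (MulAut.conj g).toMonoidHom
    have hY'S : Y' ≤ (S : Subgroup G) := (Subgroup.map_mono hY).trans hTg
    have hY'4 : HasFour Y' := ⟨g * a * g⁻¹, ⟨a, ha, rfl⟩, g * b * g⁻¹, ⟨b, hb, rfl⟩, hai.conj g,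
      hbi.conj g, by
        calc g * a * g⁻¹ * (g * b * g⁻¹) = g * (a * b) * g⁻¹ := by group
          _ = g * b * g⁻¹ * (g * a * g⁻¹) := by rw [hab]; group, fun h => hne (by simpa using h)⟩
    have hmem : g * n * g⁻¹ ∈ M := by
      refine hconj Y' hY'S hY'4 _ (le_of_eq_of_le ?_ hY'S)
      have h := Subgroup.mem_normalizer_iff_map_conj_eq.mp hn.1
      rw [Subgroup.map_map]
      conv_rhs => rw [show Y' = Y.map (MulAut.conj g).toMonoidHom from rfl, ← h, Subgroup.map_map]
      congr 1
      ext y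
      simp [mul_assoc]
    have h := mul_mem (mul_mem (inv_mem hgM) hmem) hgM
    rwa [show g⁻¹ * (g * n * g⁻¹) * g = n by group] at h
  -- the normalizer is strongly embedded or everything
  have hN : ∀ Q : Subgroup G, Q ≤ (S : Subgroup G) → Q ≠ ⊥ →
      Subgroup.normalizer (Q : Set G) ≤ M := by
    intro Q hQS hQ1 n hn
    rcases hasFour_or_atMostOne (S.isPGroup'.to_le hQS) with h4 | h1
    · exact hconj Q hQS h4 n ((Subgroup.mem_normalizer_iff_map_conj_eq.mp hn).le.trans hQS)
    · obtain ⟨z, hzQ, hz2, -⟩ :=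
        CfsgLib.LocalCharP.exists_central_orderOf_eq (S.isPGroup'.to_le hQS) hQ1
      refine hC z (hQS hzQ) (isInv_of_orderOf hz2) (Subgroup.mem_centralizer_singleton_iff.mpr ?_)
      have hnz := (Subgroup.mem_normalizer_iff.mp hn z).mp hzQ
      have h := congrArg Subtype.val (h1 ⟨_, hnz⟩ ⟨z, hzQ⟩
        (by rw [← Subgroup.orderOf_coe]; exact ((isInv_of_orderOf hz2).conj n).orderOf)
        (by rw [← Subgroup.orderOf_coe]; exact hz2))
      exact mul_inv_eq_iff_eq_mul.mp h
  obtain ⟨S', hS'⟩ := (Uniqueness.isPGroup_of_elementary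
    (BalanceNineteen.elementary_of_involution ht.2)).exists_le_sylow
  obtain ⟨g, hg⟩ := MulAction.exists_smul_eq G S' S
  have hgt : g * t * g⁻¹ ∈ (S : Subgroup G) := by
    rw [← hg]
    exact ⟨t, hS' (Subgroup.mem_zpowers t), rfl⟩
  have hgi := ht.conj g
  have hS1 : (S : Subgroup G) ≠ ⊥ := fun h => by
    rw [h, Subgroup.mem_bot] at hgt
    exact hgi.1 hgt
  have hSM : (S : Subgroup G) ≤ M :=
    Subgroup.le_normalizer.trans (hN _ le_rfl hS1)
  have hoddW : Odd (Nat.card W) := Nat.not_even_iff_odd.mp fun h => hodd (even_iff_two_dvd.mp h)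
  have hW : W = ⊥ := by
    by_cases hM : M = ⊤
    · exact le_bot_iff.mp (hO ▸
        TwoComponents.le_oddCore (Subgroup.normalizer_eq_top_iff.mp hM) hoddW)
    · have hse := CfsgLib.StronglyEmbedded.intro_of_sylow hM S hSM hS1 hN
      have hWM : W ≤ M := Subgroup.le_normalizer
      have h1 : W.subgroupOf M ≤ oddCore ↥M :=
        TwoComponents.le_oddCore ((Subgroup.normal_subgroupOf_iff_le_normalizer hWM).mpr le_rfl)
          (by rw [Nat.card_congr (Subgroup.subgroupOfEquivOfLe hWM).toEquiv]; exact hoddW)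
      refine le_bot_iff.mp (hO ▸ le_trans ?_ (hSE' M hse))
      calc W = (W.subgroupOf M).map M.subtype := (Subgroup.map_subgroupOf_eq_of_le hWM).symm
        _ ≤ _ := Subgroup.map_mono h1
  have h := hinv _ hgt hgi
  rw [hW, hθ.equivariant, le_bot_iff] at h
  exact (Subgroup.map_eq_bot_iff_of_injective _ (MulAut.conj g).injective).mp h

/-- If involution centralizers have characteristic two, so have all 2-locals. -/
theorem isCharacteristicTwoType_of_centralizers (h2 : Even (Nat.card G))
    (hch : ∀ t : G, orderOf t = 2 →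
      Subgroup.centralizer (Cfsg.pCore 2 ↥(Subgroup.centralizer ({t} : Set G)) :
          Set ↥(Subgroup.centralizer ({t} : Set G))) ≤
        Cfsg.pCore 2 ↥(Subgroup.centralizer ({t} : Set G))) :
    Cfsg.IsCharacteristicTwoType G := by
  refine ⟨h2, fun T hT hTne => ?_⟩
  have : Fact (Nat.Prime 2) := ⟨Nat.prime_two⟩
  have hnT : Nontrivial T := (Subgroup.nontrivial_iff_ne_bot T).2 hTne
  have := hT.center_nontrivial
  obtain ⟨z, hz⟩ := exists_prime_orderOf_dvd_card' (G := Subgroup.center T) 2 (by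
    obtain ⟨k, hk⟩ := IsPGroup.iff_card.1 (hT.to_subgroup (Subgroup.center T))
    rw [hk]
    refine dvd_pow_self 2 fun h => ?_
    have := Finite.one_lt_card (α := Subgroup.center T)
    simp [hk, h] at this)
  set t : G := ((z : T) : G) with htdef
  have ht : orderOf t = 2 := by rw [htdef, Subgroup.orderOf_coe, Subgroup.orderOf_coe, hz]
  have htT : ∀ a ∈ T, a * t = t * a := fun a ha =>
    congrArg Subtype.val (Subgroup.mem_center_iff.1 z.2 ⟨a, ha⟩)
  set C : Subgroup G := Subgroup.centralizer ({t} : Set G) with hC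
  have hTC : T ≤ C := fun a ha => Subgroup.mem_centralizer_singleton_iff.2 (htT a ha)
  have hCchar := hch t ht
  have hCTp : IsPGroup 2 (T.subgroupOf C) := hT.comap_of_injective _ C.subtype_injective
  have hL := CfsgLib.GlaubermanZJ.charP_centralizer hCchar hCTp
  set L : Subgroup C := Subgroup.centralizer ((T.subgroupOf C : Subgroup C) : Set C) with hLdef
  set NT : Subgroup G := Subgroup.normalizer (T : Set G) with hNT
  refine CfsgLib.LocalP.centralizer_pCore_le (G := NT) fun x hx hcop => ?_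
  have hTpc : T.subgroupOf NT ≤ Cfsg.pCore 2 NT :=
    CfsgLib.LocalP.le_pCore Subgroup.normal_in_normalizer (hT.comap_of_injective _ NT.subtype_injective)
  have hxT : ∀ a ∈ T, (x : G) * a = a * x := fun a ha =>
    (congrArg Subtype.val (Subgroup.mem_centralizer_iff.1 hx
      (⟨a, Subgroup.le_normalizer ha⟩ : NT) (hTpc ha))).symm
  have hxC : (x : G) ∈ C := Subgroup.mem_centralizer_singleton_iff.2 (hxT t (z : T).2)
  have hxL : (⟨x, hxC⟩ : C) ∈ L := Subgroup.mem_centralizer_iff.2 fun a ha =>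
    Subtype.ext (hxT a ha).symm
  -- `O₂(C_G(T))` lies in `O₂(N_G(T))`
  set R : Subgroup G := ((Cfsg.pCore 2 L).map L.subtype).map C.subtype with hR
  have hLmap : L.map C.subtype = Subgroup.centralizer (T : Set G) := by
    ext y
    constructor
    · rintro ⟨w, hw, rfl⟩
      exact Subgroup.mem_centralizer_iff.2 fun a ha => congrArg Subtype.val
        (Subgroup.mem_centralizer_iff.1 hw ⟨a, hTC ha⟩ ha)
    · intro hy
      have hyC : y ∈ C := Subgroup.mem_centralizer_singleton_iff.2
        (Subgroup.mem_centralizer_iff.1 hy t (z : T).2).symm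
      exact ⟨⟨y, hyC⟩, Subgroup.mem_centralizer_iff.2 fun a ha =>
        Subtype.ext (Subgroup.mem_centralizer_iff.1 hy a ha), rfl⟩
  have hRNT : ∀ r ∈ Cfsg.pCore 2 L, (((r : C)) : G) ∈ NT := fun r _ =>
    Subgroup.centralizer_le_normalizer _ (hLmap ▸ Subgroup.mem_map_of_mem _ r.2)
  have hRpc : R.subgroupOf NT ≤ Cfsg.pCore 2 NT := by
    refine CfsgLib.LocalP.le_pCore ⟨fun y hy g => ?_⟩
      (((CfsgLib.LocalP.isPGroup_pCore (G := L) (p := 2)).map _).map _ |>.comap_of_injective _
        NT.subtype_injective)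
    obtain ⟨_, ⟨r, hr, rfl⟩, hry⟩ := (Subgroup.mem_subgroupOf.1 hy : (y : G) ∈ R)
    have hgc : ∀ w ∈ Subgroup.centralizer (T : Set G),
        (g : G) * w * (g : G)⁻¹ ∈ Subgroup.centralizer (T : Set G) := by
      intro w hw
      refine Subgroup.mem_centralizer_iff.2 fun a ha => ?_
      have ha' : (g : G)⁻¹ * a * g ∈ T := (Subgroup.mem_normalizer_iff''.1 g.2 a).1 ha
      have h1 : ((g : G)⁻¹ * a * g) * w = w * ((g : G)⁻¹ * a * g) :=
        Subgroup.mem_centralizer_iff.1 hw _ ha'
      calc a * ((g : G) * w * (g : G)⁻¹) = g * (((g : G)⁻¹ * a * g) * w) * (g : G)⁻¹ := by group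
        _ = _ := by rw [h1]; group
    -- conjugation by `g` induces an automorphism of `L`
    have hgc' : ∀ w : L, ∃ v : L, ((v : C) : G) = g * ((w : C) : G) * (g : G)⁻¹ := by
      intro w
      have h1 := hgc _ (hLmap ▸ Subgroup.mem_map_of_mem C.subtype w.2)
      rw [← hLmap] at h1
      obtain ⟨v, hv, hve⟩ := h1
      exact ⟨⟨v, hv⟩, hve⟩
    choose φ hφ using hgc'
    let φhom : L →* L := MonoidHom.mk' φ fun a b => by
      apply Subtype.ext; apply Subtype.ext
      rw [hφ, Subgroup.coe_mul, Subgroup.coe_mul, Subgroup.coe_mul, Subgroup.coe_mul, hφ, hφ]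
      group
    have hinj : Function.Injective φhom := by
      intro a b hab
      have h2 := congrArg (fun v : L => ((v : C) : G)) hab
      simp only [φhom, MonoidHom.mk'_apply, hφ] at h2
      exact Subtype.ext (Subtype.ext (mul_left_cancel (mul_right_cancel h2)))
    have hsurj : Function.Surjective φhom := Finite.surjective_of_injective hinj
    have hmem : φhom r ∈ Cfsg.pCore 2 L :=
      CfsgLib.LocalP.le_pCore ((Cfsg.pCore_normal 2 L).map φhom hsurj)
        ((CfsgLib.LocalP.isPGroup_pCore (G := L) (p := 2)).map φhom) (Subgroup.mem_map_of_mem _ hr)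
    refine Subgroup.mem_subgroupOf.2 ⟨_, ⟨_, hmem, rfl⟩, ?_⟩
    simp only [φhom, MonoidHom.mk'_apply, Subgroup.coe_subtype, hφ, Subgroup.coe_mul,
      InvMemClass.coe_inv]
    rw [← hry]; rfl
  have hone : (⟨⟨x, hxC⟩, hxL⟩ : L) = 1 := by
    refine CfsgLib.LocalP.eq_one_of_centralizes_pCore hL ?_ fun r hr => ?_
    · rwa [← Subgroup.orderOf_coe, ← Subgroup.orderOf_coe, Subgroup.orderOf_coe x]
    · apply Subtype.ext; apply Subtype.ext
      exact (congrArg Subtype.val (Subgroup.mem_centralizer_iff.1 hx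
        (⟨_, hRNT r hr⟩ : NT) (hRpc (show (((r : C)) : G) ∈ R from ⟨_, ⟨r, hr, rfl⟩, rfl⟩)))).symm
  exact Subtype.ext (congrArg (fun v : L => ((v : C) : G)) hone)

/-- The shape of S0504. -/
theorem characteristicTwoType_of_connected (hFT : BalanceNineteen.OddOrderSolvable.{u})
    (hSF : BalanceNineteen.SignalizerFunctorTheorem.{u}) (hSE' : StronglyEmbeddedCore.{u})
    (h3 : ¬ PRankLE 2 2 G) (hO : oddCore G = ⊥) (hct : ¬ IsComponentType G)
    (hS : IsFourConnected (S : Subgroup G)) : IsCharacteristicTwoType G := by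
  have : Fact (Nat.Prime 2) := ⟨Nat.prime_two⟩
  have h2 : Even (Nat.card G) := by
    unfold PRankLE at h3
    push Not at h3
    obtain ⟨B, hBc, hBe, hBk⟩ := h3
    obtain ⟨k, hk⟩ := IsPGroup.iff_card.mp (Uniqueness.isPGroup_of_elementary
      (show IsElementaryAbelian 2 B from ⟨hBc, hBe⟩))
    rw [even_iff_two_dvd]
    refine dvd_trans ?_ (Subgroup.card_subgroup_dvd_card B)
    rw [hk] at hBk ⊢
    exact dvd_pow_self 2 fun h => by subst h; norm_num at hBk
  have hc : ∀ t : G, IsInv t → IsPConstrained 2 ↥(Subgroup.centralizer ({t} : Set G)) := fun t ht =>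
    isPConstrained_of_not_hasComponent fun h => hct ⟨t, ht.orderOf, h⟩
  refine isCharacteristicTwoType_of_centralizers h2 fun t ht => ?_
  have hti := isInv_of_orderOf ht
  have h := core_trivial_of_connected hFT hSF hSE' hO hS h3 hc hti
  rw [centralizerPPrimeCore, Subgroup.map_eq_bot_iff_of_injective _ (Subgroup.subtype_injective _)] at h
  exact (Constrained.isPConstrained_iff_of_pPrimeCore_eq_bot h).mp (hc t hti)

end CfsgLib.SignalizerMethod
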