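import Cfsg.Agent.SignalizerMethod.Connected
import Cfsg.Agent.Involution.NormalFour
import Cfsg.Agent.Involutions.SelfCentralizingFour

/-!
The dichotomy theorem without connectivity: in a group without component type, without a subgroup
of index two and with 2-rank at least three, the odd cores of the involution centralizers vanish.

Let `U = ⟨z, b⟩` be a normal four-group of a Sylow 2-subgroup `S` with `z` central and let `W` be
the closure of the signalizer functor on `U`. All elementary subgroups of order eight of `S` have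
closure `W`, `U` lies in `O_{2',2}(C(z))` and `z` in `O_{2',2}(C(b))` up to a symmetry of `U`, so
`C(z)` normalizes `W`; transfer and a square root of `z` bring in all the other involutions.
-/

set_option autoImplicit false
set_option linter.unusedSectionVars false

namespace CfsgLib.SignalizerMethod.Dichotomy89

open Cfsg CfsgLib CfsgLib.Coprime CfsgLib.SignalizerMethod
open scoped commutatorElement

universe u

section Constrained

variable {C : Type*} [Group C] [Finite C]

/-- A Sylow subgroup and the core cover `O_{2',2}`. -/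
theorem exists_mem_sylow (T : Sylow 2 C) {r : C} (hr : r ∈ pPrimePCore 2 C) :
    ∃ y ∈ (T : Subgroup C), y ∈ pPrimePCore 2 C ∧ r * y⁻¹ ∈ pPrimeCore 2 C := by
  have : Fact (Nat.Prime 2) := ⟨Nat.prime_two⟩
  have hn := Constrained.instNormalPPrimeCore (G := C) 2
  set π := QuotientGroup.mk' (pPrimeCore 2 C)
  have hn' := Constrained.instNormalPCore (G := C ⧸ pPrimeCore 2 C) 2
  set T' : Sylow 2 (C ⧸ pPrimeCore 2 C) := T.mapSurjective (QuotientGroup.mk'_surjective _) with hT'
  have hle : pCore 2 (C ⧸ pPrimeCore 2 C) ≤ (T' : Subgroup _) := by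
    have h := T'.is_maximal' (IsPGroup.to_sup_of_normal_left'
      (LocalP.isPGroup_pCore (G := C ⧸ pPrimeCore 2 C) (p := 2)) T'.isPGroup'
      ((Subgroup.normalizer_eq_top (H := pCore 2 (C ⧸ pPrimeCore 2 C))).symm ▸ le_top)) le_sup_right
    exact le_sup_left.trans h.le
  obtain ⟨y, hy, hyr⟩ := hle (show π r ∈ pCore 2 (C ⧸ pPrimeCore 2 C) from hr)
  refine ⟨y, hy, ?_, ?_⟩
  · show π y ∈ pCore 2 (C ⧸ pPrimeCore 2 C)
    rw [hyr]; exact hr
  · rw [← QuotientGroup.eq_one_iff]
    show π (r * y⁻¹) = 1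
    rw [map_mul, map_inv, hyr, mul_inv_cancel]

/-- The quotient image of `O_{2',2}` is centralized by what centralizes a Sylow subgroup. -/
theorem mk_comm_of_centralizes (T : Sylow 2 C) {z : C} (hz : ∀ t ∈ (T : Subgroup C), t * z = z * t)
    {q : C ⧸ pPrimeCore 2 C} (hq : q ∈ pCore 2 (C ⧸ pPrimeCore 2 C)) :
    q * (z : C ⧸ pPrimeCore 2 C) = (z : C ⧸ pPrimeCore 2 C) * q := by
  obtain ⟨r, rfl⟩ := QuotientGroup.mk'_surjective _ q
  obtain ⟨y, hy, -, hry⟩ := exists_mem_sylow T hq
  have h : (r : C ⧸ pPrimeCore 2 C) = (y : C ⧸ pPrimeCore 2 C) := by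
    rw [← mul_inv_eq_one, ← QuotientGroup.mk_inv, ← QuotientGroup.mk_mul]
    exact (QuotientGroup.eq_one_iff _).mpr hry
  show (r : C ⧸ pPrimeCore 2 C) * z = z * r
  rw [h, ← QuotientGroup.mk_mul, ← QuotientGroup.mk_mul, hz y hy]

/-- What centralizes a Sylow subgroup lies in `O_{2',2}`. -/
theorem mem_of_centralizes (hC : IsPConstrained 2 C) (T : Sylow 2 C) {z : C}
    (hz : ∀ t ∈ (T : Subgroup C), t * z = z * t) : z ∈ pPrimePCore 2 C := by
  have : Fact (Nat.Prime 2) := ⟨Nat.prime_two⟩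
  exact Constrained.isPConstrained_iff.mp hC
    (Subgroup.mem_centralizer_iff.mpr fun q hq => mk_comm_of_centralizes T hz hq)

/-- An element acting on `O₂` through a central involution lies in `O₂`. -/
theorem mem_pCore_of_comm_central {H : Type*} [Group H] [Finite H]
    (hH : Subgroup.centralizer (pCore 2 H : Set H) ≤ pCore 2 H) {z : H}
    (hz : ∀ h : H, h * z = z * h) (hz2 : z * z = 1) {x : H}
    (hx : ∀ q ∈ pCore 2 H, x * q * x⁻¹ = q ∨ x * q * x⁻¹ = z * q) : x ∈ pCore 2 H := by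
  have : Fact (Nat.Prime 2) := ⟨Nat.prime_two⟩
  have hn := Constrained.instNormalPCore (G := H) 2
  let A : Subgroup H :=
    { carrier := {h | ∀ q ∈ pCore 2 H, h * q * h⁻¹ = q ∨ h * q * h⁻¹ = z * q}
      one_mem' := fun q _ => Or.inl (by group)
      mul_mem' := fun {a c} ha hc q hq => by
        have e : a * c * q * (a * c)⁻¹ = a * (c * q * c⁻¹) * a⁻¹ := by group
        have ez : a * (z * q) * a⁻¹ = z * (a * q * a⁻¹) := by
          rw [← mul_assoc, hz a, mul_assoc, mul_assoc, ← mul_assoc a]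
        rcases hc q hq with h | h
        · rcases ha q hq with h' | h'
          · exact Or.inl (by rw [e, h, h'])
          · exact Or.inr (by rw [e, h, h'])
        · rcases ha q hq with h' | h'
          · exact Or.inr (by rw [e, h, ez, h'])
          · exact Or.inl (by rw [e, h, ez, h', ← mul_assoc, hz2, one_mul])
      inv_mem' := fun {a} ha q hq => by
        have hq' : a⁻¹ * q * a ∈ pCore 2 H := by
          have := hn.conj_mem q hq a⁻¹
          rwa [inv_inv] at this
        rcases ha _ hq' with h | h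
        · left
          rw [inv_inv, ← h]; group
        · right
          rw [inv_inv]
          have h' : q = z * (a⁻¹ * q * a) := by rw [← h]; group
          calc a⁻¹ * q * a = z * (z * (a⁻¹ * q * a)) := by rw [← mul_assoc z z, hz2, one_mul]
            _ = z * q := by rw [← h'] }
  have hA : A.Normal := ⟨fun a ha g q hq => by
    have hq' : g⁻¹ * q * g ∈ pCore 2 H := by
      have := hn.conj_mem q hq g⁻¹
      rwa [inv_inv] at this
    have e : g * a * g⁻¹ * q * (g * a * g⁻¹)⁻¹ = g * (a * (g⁻¹ * q * g) * a⁻¹) * g⁻¹ := by group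
    rcases ha _ hq' with h | h
    · left; rw [e, h]; group
    · right; rw [e, h, ← mul_assoc g z, hz g]; group⟩
  refine LocalP.le_pCore hA ?_ (show x ∈ A from hx)
  intro a
  have hsq : ∀ q ∈ pCore 2 H, q * ((a : H) * a) = (a : H) * a * q := fun q hq => by
    have h2 : (a : H) * ((a : H) * q * (a : H)⁻¹) * (a : H)⁻¹ = q := by
      rcases a.2 q hq with h | h
      · rw [h, h]
      · rw [h, ← mul_assoc (a : H) z, hz, mul_assoc z, mul_assoc z, h, ← mul_assoc, hz2, one_mul]
    calc q * ((a : H) * a) = (a : H) * ((a : H) * q * (a : H)⁻¹) * (a : H)⁻¹ * ((a : H) * a) := by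
          rw [h2]
      _ = (a : H) * a * q := by group
  have hmem : (a : H) * a ∈ pCore 2 H := hH (Subgroup.mem_centralizer_iff.mpr hsq)
  obtain ⟨k, hk⟩ := (LocalP.isPGroup_pCore (G := H) (p := 2)) ⟨_, hmem⟩
  refine ⟨k + 1, Subtype.ext ?_⟩
  have h := congrArg Subtype.val hk
  rw [SubgroupClass.coe_pow] at h
  rw [SubgroupClass.coe_pow, pow_succ', pow_mul, pow_two]
  exact h

/-- In a centralizer of an involution, an involution moved only by the central one lies in
`O_{2',2}`. -/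
theorem mem_of_conj_mem (hC : IsPConstrained 2 C) (T : Sylow 2 C) {z x : C}
    (hz : ∀ c : C, c * z = z * c) (hz2 : z * z = 1) (hx2 : x * x = 1)
    (hx : ∀ t ∈ (T : Subgroup C), t * x * t⁻¹ = x ∨ t * x * t⁻¹ = z * x) :
    x ∈ pPrimePCore 2 C := by
  have : Fact (Nat.Prime 2) := ⟨Nat.prime_two⟩
  have hn := Constrained.instNormalPPrimeCore (G := C) 2
  refine mem_pCore_of_comm_central (Constrained.isPConstrained_iff.mp hC)
    (z := (z : C ⧸ pPrimeCore 2 C)) ?_ ?_ ?_
  · intro h
    obtain ⟨c, rfl⟩ := QuotientGroup.mk'_surjective _ h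
    show (c : C ⧸ pPrimeCore 2 C) * z = z * c
    rw [← QuotientGroup.mk_mul, ← QuotientGroup.mk_mul, hz c]
  · rw [← QuotientGroup.mk_mul, hz2, QuotientGroup.mk_one]
  · intro q hq
    obtain ⟨r, rfl⟩ := QuotientGroup.mk'_surjective _ q
    obtain ⟨y, hy, -, hry⟩ := exists_mem_sylow T hq
    have h : (r : C ⧸ pPrimeCore 2 C) = (y : C ⧸ pPrimeCore 2 C) := by
      rw [← mul_inv_eq_one, ← QuotientGroup.mk_inv, ← QuotientGroup.mk_mul]
      exact (QuotientGroup.eq_one_iff _).mpr hry
    have hx' : x⁻¹ = x := inv_eq_of_mul_eq_one_right hx2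
    have hc : x * y * x⁻¹ = y ∨ x * y * x⁻¹ = z * y := by
      rcases hx y hy with h | h
      · left
        rw [mul_inv_eq_iff_eq_mul, ← mul_inv_eq_iff_eq_mul.mp h]
      · right
        have h1 : y * x = z * x * y := mul_inv_eq_iff_eq_mul.mp h
        calc x * y * x⁻¹ = x * (y * x) := by rw [hx', mul_assoc]
          _ = x * z * x * y := by rw [h1]; group
          _ = z * y := by rw [hz x, mul_assoc z x x, hx2, mul_one]
    show (x : C ⧸ pPrimeCore 2 C) * (r : C ⧸ pPrimeCore 2 C) * (x : C ⧸ pPrimeCore 2 C)⁻¹ = r ∨ _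
    rw [h]
    rcases hc with h' | h'
    · left; rw [← QuotientGroup.mk_inv, ← QuotientGroup.mk_mul, ← QuotientGroup.mk_mul, h']
    · right
      show (x : C ⧸ pPrimeCore 2 C) * (r : C ⧸ pPrimeCore 2 C) * (x : C ⧸ pPrimeCore 2 C)⁻¹ =
        (z : C ⧸ pPrimeCore 2 C) * (r : C ⧸ pPrimeCore 2 C)
      rw [h]
      rw [← QuotientGroup.mk_inv, ← QuotientGroup.mk_mul, ← QuotientGroup.mk_mul, h',
        QuotientGroup.mk_mul]

/-- An element of `O_{2',2}` acts on odd subgroups modulo the core trivially. -/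
theorem comm_mem_core {z : C} (hz : z ∈ pPrimePCore 2 C) {X : Subgroup C}
    (hX : ¬ 2 ∣ Nat.card X) (hzX : z ∈ Subgroup.normalizer (X : Set C)) {x : C} (hx : x ∈ X) :
    x * z * x⁻¹ * z⁻¹ ∈ pPrimeCore 2 C := by
  have : Fact (Nat.Prime 2) := ⟨Nat.prime_two⟩
  have hn := Constrained.instNormalPPrimeCore (G := C) 2
  have hRn := Constrained.instNormalPPrimePCore (G := C) 2
  set c := x * z * x⁻¹ * z⁻¹
  have hcX : c ∈ X := by
    rw [show c = x * (z * x⁻¹ * z⁻¹) by simp only [c]; group]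
    exact mul_mem hx ((Subgroup.mem_normalizer_iff.mp hzX _).mp (inv_mem hx))
  have hcR : c ∈ pPrimePCore 2 C := mul_mem (hRn.conj_mem z hz x) (inv_mem hz)
  rw [← QuotientGroup.eq_one_iff]
  obtain ⟨k, hk⟩ := (LocalP.isPGroup_pCore (G := C ⧸ pPrimeCore 2 C) (p := 2))
    ⟨(c : C ⧸ pPrimeCore 2 C), hcR⟩
  have h1 : orderOf (c : C ⧸ pPrimeCore 2 C) ∣ 2 ^ k :=
    orderOf_dvd_of_pow_eq_one (by simpa using congrArg Subtype.val hk)
  have h2 : orderOf (c : C ⧸ pPrimeCore 2 C) ∣ Nat.card X :=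
    (orderOf_map_dvd (QuotientGroup.mk' (pPrimeCore 2 C)) c).trans (Subgroup.orderOf_dvd_natCard X hcX)
  exact orderOf_eq_one_iff.mp (Nat.eq_one_of_dvd_coprimes
    ((Nat.prime_two.coprime_iff_not_dvd.mpr hX).pow_left k) h1 h2)

end Constrained

variable {G : Type u} [Group G] [Finite G]

/-- `z` acts on the odd subgroups of `C(b)` trivially modulo `O(C(b))`. -/
def Kills (b z : G) : Prop :=
  ∀ X : Subgroup G, X ≤ Subgroup.centralizer ({b} : Set G) → ¬ 2 ∣ Nat.card X →
    z ∈ Subgroup.normalizer (X : Set G) → ∀ x ∈ X, x * z * x⁻¹ * z⁻¹ ∈ centralizerPPrimeCore 2 b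

theorem kills_of_mem {b z : G} (hz : z ∈ Subgroup.centralizer ({b} : Set G))
    (h : (⟨z, hz⟩ : Subgroup.centralizer ({b} : Set G)) ∈
      pPrimePCore 2 ↥(Subgroup.centralizer ({b} : Set G))) : Kills b z := by
  intro X hX hodd hzX x hx
  set C := Subgroup.centralizer ({b} : Set G)
  have hcard : ¬ 2 ∣ Nat.card (X.subgroupOf C) := by
    rwa [Nat.card_congr (Subgroup.subgroupOfEquivOfLe hX).toEquiv]
  have hn : (⟨z, hz⟩ : C) ∈ Subgroup.normalizer (X.subgroupOf C : Set C) := by
    rw [Subgroup.mem_normalizer_iff]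
    intro y
    exact Subgroup.mem_normalizer_iff.mp hzX (y : G)
  exact ⟨_, comm_mem_core h hcard hn (x := ⟨x, hX hx⟩) hx, rfl⟩

theorem conj_mem_core (g a : G) {x : G} (hx : x ∈ centralizerPPrimeCore 2 a) :
    g * x * g⁻¹ ∈ centralizerPPrimeCore 2 (g * a * g⁻¹) :=
  CfsgLib.Cores.map_centralizerPPrimeCore_le (MulAut.conj g) a ⟨x, hx, rfl⟩

theorem core_conj (g a : G) : centralizerPPrimeCore 2 (g * a * g⁻¹) =
    (centralizerPPrimeCore 2 a).map (MulAut.conj g).toMonoidHom := by
  apply le_antisymm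
  · intro x hx
    refine ⟨g⁻¹ * x * g, ?_, by simp [mul_assoc]⟩
    have h := conj_mem_core g⁻¹ _ hx
    rwa [show g⁻¹ * (g * a * g⁻¹) * g⁻¹⁻¹ = a by group, inv_inv] at h
  · rintro _ ⟨x, hx, rfl⟩
    exact conj_mem_core g a hx

theorem Kills.conj {b z : G} (h : Kills b z) (g : G) : Kills (g * b * g⁻¹) (g * z * g⁻¹) := by
  intro X hX hodd hzX x hx
  set Y := X.map (MulAut.conj g⁻¹).toMonoidHom with hY
  have hYc : Y ≤ Subgroup.centralizer ({b} : Set G) := by
    rintro _ ⟨y, hy, rfl⟩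
    have h' := Subgroup.mem_centralizer_singleton_iff.mp (hX hy)
    rw [Subgroup.mem_centralizer_singleton_iff]
    show g⁻¹ * y * g⁻¹⁻¹ * b = b * (g⁻¹ * y * g⁻¹⁻¹)
    calc g⁻¹ * y * g⁻¹⁻¹ * b = g⁻¹ * (y * (g * b * g⁻¹)) * g := by group
      _ = g⁻¹ * ((g * b * g⁻¹) * y) * g := by rw [h']
      _ = b * (g⁻¹ * y * g⁻¹⁻¹) := by group
  have hYodd : ¬ 2 ∣ Nat.card Y := by
    rwa [hY, Subgroup.card_map_of_injective (MulAut.conj g⁻¹).injective]
  have hYz : z ∈ Subgroup.normalizer (Y : Set G) := by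
    have h' := Subgroup.le_normalizer_map (MulAut.conj g⁻¹).toMonoidHom (Subgroup.mem_map_of_mem _ hzX)
    rw [show (MulAut.conj g⁻¹).toMonoidHom (g * z * g⁻¹) = z by simp [mul_assoc]] at h'
    exact h'
  have hxY : g⁻¹ * x * g ∈ Y := ⟨x, hx, by simp⟩
  have h1 := conj_mem_core g b (h Y hYc hYodd hYz _ hxY)
  convert h1 using 1
  group

/-- An elementary subgroup of order at least eight of `S`. -/
def IsEight (S : Sylow 2 G) (F : Subgroup G) : Prop :=
  IsElementaryAbelian 2 F ∧ 2 ^ 3 ≤ Nat.card F ∧ F ≤ (S : Subgroup G)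

/-- An involution in an elementary subgroup of order eight of `S`. -/
def Good (S : Sylow 2 G) (t : G) : Prop := IsInv t ∧ ∃ F : Subgroup G, IsEight S F ∧ t ∈ F

/-- A normal four-group `⟨z, b⟩` of `S`, equal to the involutions of the centre of its
centralizer. -/
structure Four (S : Sylow 2 G) (z b : G) : Prop where
  zS : z ∈ (S : Subgroup G)
  bS : b ∈ (S : Subgroup G)
  zi : IsInv z
  bi : IsInv b
  ne : z ≠ b
  central : ∀ s ∈ (S : Subgroup G), s * z = z * s
  conj : ∀ s ∈ (S : Subgroup G), s * b * s⁻¹ = b ∨ s * b * s⁻¹ = z * b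
  omega : ∀ w ∈ (S : Subgroup G), IsInv w → w * b = b * w →
    (∀ s ∈ (S : Subgroup G), s * b = b * s → s * w = w * s) → w = z ∨ w = b ∨ w = z * b

variable {S : Sylow 2 G} {z b : G}

/-- The four-group. -/
abbrev fourGroup (z b : G) : Subgroup G := Subgroup.zpowers z ⊔ Subgroup.zpowers b

theorem Four.comm (h : Four S z b) : z * b = b * z := (h.central b h.bS).symm

theorem mem_fourGroup {z b : G} (hz : z * z = 1) (hb : b * b = 1) (hzb : z * b = b * z) {u : G}
    (hu : u ∈ fourGroup z b) : u = 1 ∨ u = z ∨ u = b ∨ u = z * b := by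
  have key : ∀ {a : G}, a * a = 1 → ∀ i : ℤ, a ^ i = 1 ∨ a ^ i = a := fun {a} ha i => by
    rcases Int.even_or_odd i with ⟨j, rfl⟩ | ⟨j, rfl⟩
    · left; rw [← two_mul, zpow_mul, zpow_two, ha, one_zpow]
    · right; rw [zpow_add, zpow_mul, zpow_two, ha, one_zpow, one_mul, zpow_one]
  have hle : Subgroup.zpowers z ≤ Subgroup.normalizer (Subgroup.zpowers b : Set G) := by
    refine le_trans ?_ (Subgroup.centralizer_le_normalizer _)
    refine Subgroup.zpowers_le.mpr (Subgroup.mem_centralizer_iff.mpr fun x hx => ?_)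
    obtain ⟨i, rfl⟩ := Subgroup.mem_zpowers_iff.mp hx
    exact ((show Commute b z from hzb.symm).zpow_left i).eq
  rw [fourGroup, ← SetLike.mem_coe, Subgroup.coe_mul_of_left_le_normalizer_right _ _ hle] at hu
  obtain ⟨_, ⟨i, rfl⟩, _, ⟨j, rfl⟩, rfl⟩ := hu
  rcases key hz i with h1 | h1 <;> rcases key hb j with h2 | h2 <;> simp [h1, h2]

theorem Four.swap (h : Four S z b) : Four S z (z * b) where
  zS := h.zS
  bS := mul_mem h.zS h.bS
  zi := h.zi
  bi := ⟨fun h1 => h.ne (by rw [← inv_eq_of_mul_eq_one_right h1, inv_eq_of_mul_eq_one_right h.zi.2]),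
    by rw [mul_assoc, ← mul_assoc b z b, ← h.comm, mul_assoc z b b, h.bi.2, mul_one, h.zi.2]⟩
  ne := fun h1 => h.bi.1 (left_eq_mul.mp h1)
  central := h.central
  conj := fun s hs => by
    have e : s * (z * b) * s⁻¹ = z * (s * b * s⁻¹) := by
      rw [← mul_assoc, h.central s hs]; group
    rcases h.conj s hs with h' | h'
    · left; rw [e, h']
    · right; rw [e, h']
  omega := fun w hw hwi hwb hall => by
    have hb' : w * b = b * w := by
      have h1 : w * (z * b) = z * (w * b) := by rw [← mul_assoc, h.central w hw, mul_assoc]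
      rw [h1, mul_assoc z b w] at hwb
      exact mul_left_cancel hwb
    rcases h.omega w hw hwi hb' (fun s hs hsb => hall s hs (by
      rw [← mul_assoc, h.central s hs, mul_assoc, hsb, ← mul_assoc])) with e | e | e
    · exact Or.inl e
    · right; right; rw [e, ← mul_assoc, h.zi.2, one_mul]
    · exact Or.inr (Or.inl e)

theorem Four.elem (h : Four S z b) :
    IsElementaryAbelian 2 (fourGroup z b) ∧ 4 ≤ Nat.card (fourGroup z b) :=
  pair_elementary h.zi h.bi h.comm h.ne

theorem Four.le (h : Four S z b) : fourGroup z b ≤ (S : Subgroup G) :=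
  sup_le (Subgroup.zpowers_le.mpr h.zS) (Subgroup.zpowers_le.mpr h.bS)

theorem Four.card_le (h : Four S z b) : Nat.card (fourGroup z b) ≤ 4 := by
  classical
  have hsub : (fourGroup z b : Set G) ⊆ ({1, z, b, z * b} : Finset G) := fun u hu => by
    rcases mem_fourGroup h.zi.2 h.bi.2 h.comm hu with rfl | rfl | rfl | rfl <;> simp
  have h1 := Set.ncard_le_ncard hsub (Finset.finite_toSet _)
  rw [Set.ncard_coe_finset, ← Nat.card_coe_set_eq] at h1
  exact h1.trans Finset.card_le_four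

theorem Four.le_normalizer (h : Four S z b) :
    (S : Subgroup G) ≤ Subgroup.normalizer (fourGroup z b : Set G) := by
  refine Coprime.le_normalizer_of_conj_mem fun s hs x hx => ?_
  have hzU : z ∈ fourGroup z b := Subgroup.mem_sup_left (Subgroup.mem_zpowers z)
  have hbU : b ∈ fourGroup z b := Subgroup.mem_sup_right (Subgroup.mem_zpowers b)
  have hcz : s * z * s⁻¹ = z := by rw [h.central s hs, mul_inv_cancel_right]
  have hcb : s * b * s⁻¹ ∈ fourGroup z b := by
    rcases h.conj s hs with e | e <;> rw [e]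
    exacts [hbU, mul_mem hzU hbU]
  rcases mem_fourGroup h.zi.2 h.bi.2 h.comm hx with rfl | rfl | rfl | rfl
  · simp
  · rw [hcz]; exact hzU
  · exact hcb
  · rw [show s * (z * b) * s⁻¹ = s * z * s⁻¹ * (s * b * s⁻¹) by group, hcz]
    exact mul_mem hzU hcb

/-- Squares of `S` centralize `b`. -/
theorem Four.sq_comm (h : Four S z b) {q : G} (hq : q ∈ (S : Subgroup G)) :
    q * q * b = b * (q * q) := by
  have e : q * q * b * (q * q)⁻¹ = b := by
    rw [show q * q * b * (q * q)⁻¹ = q * (q * b * q⁻¹) * q⁻¹ by group]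
    rcases h.conj q hq with h' | h'
    · rw [h', h']
    · rw [h', ← mul_assoc, h.central q hq, mul_assoc, mul_assoc, ← mul_assoc q, h', ← mul_assoc,
        h.zi.2, one_mul]
  exact mul_inv_eq_iff_eq_mul.mp e

/-- An involution of `S` centralizing `b` is good once one elementary subgroup of order eight
contains the four-group or avoids it. -/
theorem sup_eight {F : Subgroup G} {w : G} (hF : IsElementaryAbelian 2 F) (hF4 : 4 ≤ Nat.card F)
    (hFS : F ≤ (S : Subgroup G)) (hwS : w ∈ (S : Subgroup G)) (hwi : IsInv w)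
    (hc : ∀ f ∈ F, f * w = w * f) (hwF : w ∉ F) : IsEight S (F ⊔ Subgroup.zpowers w) := by
  have hE : IsElementaryAbelian 2 (F ⊔ Subgroup.zpowers w) :=
    Uniqueness.elementary_sup hF (BalanceNineteen.elementary_of_involution hwi.2) fun a ha c hc' => by
      obtain ⟨j, rfl⟩ := Subgroup.mem_zpowers_iff.mp hc'
      exact (show Commute a w from hc a ha).zpow_right j
  refine ⟨hE, ?_, sup_le hFS (Subgroup.zpowers_le.mpr hwS)⟩
  have h1 := BalanceNineteen.two_mul_card_le hE fun h => hwF (h (Subgroup.mem_zpowers w))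
  omega

/-- Every involution centralizer is 2-constrained. -/
abbrev AllConstrained (G : Type u) [Group G] : Prop :=
  ∀ t : G, IsInv t → IsPConstrained 2 ↥(Subgroup.centralizer ({t} : Set G))

theorem functorData (hFT : BalanceNineteen.OddOrderSolvable.{u}) (hc : AllConstrained G) :
    FunctorData (centralizerPPrimeCore (G := G) 2) :=
  have : Fact (Nat.Prime 2) := ⟨Nat.prime_two⟩
  { le_centralizer := fun _ _ _ a _ _ => CfsgLib.Signalizer.centralizerPPrimeCore_le a
    not_dvd := fun _ _ _ a _ _ => CfsgLib.Signalizer.centralizerPPrimeCore_not_dvd a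
    solvable := fun _ _ _ a _ _ => hFT _ (BalanceNineteen.centralizerPPrimeCore_odd a)
    balance := fun F hF _ a ha _ b hb hb1 =>
      CfsgLib.Signalizer.centralizerPPrimeCore_inf_le
        (BalanceNineteen.isPGroup_zpowers_of_sq (hF.2 a ha))
        (Subgroup.mem_centralizer_singleton_iff.mpr (comm_of_mem hF ha hb))
        (hc b (isInv_of_mem hF hb hb1))
    equivariant := core_conj }

/-- The hypotheses of the main case. -/
structure Config (S : Sylow 2 G) (z b : G) : Prop where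
  ft : BalanceNineteen.OddOrderSolvable.{u}
  sf : BalanceNineteen.SignalizerFunctorTheorem.{u}
  four : Four S z b
  con : AllConstrained G
  eight : ∃ F : Subgroup G, IsEight S F

local notation "θ₂" => centralizerPPrimeCore 2

theorem Config.data (h : Config S z b) : FunctorData (centralizerPPrimeCore (G := G) 2) :=
  functorData h.ft h.con

/-- The closure. -/
abbrev bigW (z b : G) : Subgroup G := cl (centralizerPPrimeCore 2) (fourGroup z b)

abbrev bigM (z b : G) : Subgroup G := Subgroup.normalizer (bigW z b : Set G)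

theorem Four.centralizer_b (h : Four S z b) {F : Subgroup G} (hF : IsEight S F) :
    4 ≤ Nat.card ↥(F ⊓ Subgroup.centralizer ({b} : Set G)) := by
  classical
  set D := F ⊓ Subgroup.centralizer ({b} : Set G)
  have hmem : ∀ f ∈ F, f * b * f⁻¹ = b → f ∈ D := fun f hf e =>
    ⟨hf, Subgroup.mem_centralizer_singleton_iff.mpr (mul_inv_eq_iff_eq_mul.mp e)⟩
  suffices hle : Nat.card F ≤ 2 * Nat.card D by
    have := hF.2.1
    omega
  by_cases hall : ∀ f ∈ F, f * b * f⁻¹ = b
  · have := Subgroup.card_le_of_le (fun f hf => hmem f hf (hall f hf) : F ≤ D)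
    omega
  push Not at hall
  obtain ⟨f₀, hf₀, hne⟩ := hall
  have h₀ : f₀ * b * f₀⁻¹ = z * b := (h.conj f₀ (hF.2.2 hf₀)).resolve_left hne
  have hto : ∀ f ∈ F, f * b * f⁻¹ ≠ b → f₀⁻¹ * f ∈ D := fun f hf hfb => by
    refine hmem _ (mul_mem (inv_mem hf₀) hf) ?_
    calc f₀⁻¹ * f * b * (f₀⁻¹ * f)⁻¹ = f₀⁻¹ * (f * b * f⁻¹) * f₀ := by group
      _ = f₀⁻¹ * (f₀ * b * f₀⁻¹) * f₀ := by rw [(h.conj f (hF.2.2 hf)).resolve_left hfb, h₀]
      _ = b := by group
  let φ : F → D ⊕ D := fun f => if e : (f : G) * b * (f : G)⁻¹ = b then Sum.inl ⟨f, hmem f f.2 e⟩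
    else Sum.inr ⟨f₀⁻¹ * f, hto f f.2 e⟩
  have hφ : Function.Injective φ := by
    intro a c e
    simp only [φ] at e
    split_ifs at e
    · exact Subtype.ext (congrArg Subtype.val (Sum.inl_injective e) :)
    · exact Subtype.ext (mul_left_cancel (congrArg Subtype.val (Sum.inr_injective e) :))
  have := Nat.card_le_card_of_injective φ hφ
  rw [Nat.card_sum] at this
  omega

theorem Config.cl_eight (h : Config S z b) {F : Subgroup G} (hF : IsEight S F) :
    cl θ₂ F = bigW z b ∧ ∃ F' : Subgroup G, IsEight S F' ∧ fourGroup z b ≤ F' := by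
  have : Fact (Nat.Prime 2) := ⟨Nat.prime_two⟩
  have hsub := (cl_elementary h.sf h.data hF.1 hF.2.1).2
  set D := F ⊓ Subgroup.centralizer ({b} : Set G)
  have hD4 : 4 ≤ Nat.card D := h.four.centralizer_b hF
  obtain ⟨hU, hU4⟩ := h.four.elem
  by_cases hDU : D ≤ fourGroup z b
  · have hDeq : D = fourGroup z b :=
      Subgroup.eq_of_le_of_card_ge hDU (by have := h.four.card_le; omega)
    have hUF : fourGroup z b ≤ F := hDeq ▸ inf_le_left
    exact ⟨(hsub _ hUF hU4).symm, F, hF, hUF⟩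
  have hE : IsElementaryAbelian 2 (fourGroup z b ⊔ D) :=
    Uniqueness.elementary_sup hU (elementary_of_le hF.1 inf_le_left) fun u hu d hd => by
      have hdb : Commute d b := Subgroup.mem_centralizer_singleton_iff.mp hd.2
      have hdz : Commute d z := h.four.central d (hF.2.2 hd.1)
      rcases mem_fourGroup h.four.zi.2 h.four.bi.2 h.four.comm hu with rfl | rfl | rfl | rfl
      · simp
      · exact hdz.eq.symm
      · exact hdb.eq.symm
      · exact ((hdz.mul_right hdb).eq).symm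
  have hE8 : 2 ^ 3 ≤ Nat.card ↥(fourGroup z b ⊔ D) := by
    have := BalanceNineteen.two_mul_card_le hE hDU
    omega
  refine ⟨?_, _, ⟨hE, hE8, sup_le h.four.le (inf_le_left.trans hF.2.2)⟩, le_sup_left⟩
  have hsub' := (cl_elementary h.sf h.data hE hE8).2
  rw [← hsub D inf_le_left hD4, hsub' D le_sup_right hD4, ← hsub' _ le_sup_left hU4]

theorem Config.odd (h : Config S z b) : ¬ 2 ∣ Nat.card (bigW z b) := by
  obtain ⟨F, hF⟩ := h.eight
  rw [← (h.cl_eight hF).1]
  exact (cl_elementary h.sf h.data hF.1 hF.2.1).1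

theorem Config.good_z (h : Config S z b) : Good S z ∧ Good S b := by
  obtain ⟨F, hF⟩ := h.eight
  obtain ⟨F', hF', hle⟩ := (h.cl_eight hF).2
  exact ⟨⟨h.four.zi, F', hF', hle (Subgroup.mem_sup_left (Subgroup.mem_zpowers z))⟩,
    ⟨h.four.bi, F', hF', hle (Subgroup.mem_sup_right (Subgroup.mem_zpowers b))⟩⟩

theorem Config.core_le (h : Config S z b) {t : G} (ht : Good S t) : θ₂ t ≤ bigW z b := by
  obtain ⟨hti, F, hF, htF⟩ := ht
  exact (h.cl_eight hF).1 ▸ le_cl htF hti

/-- Completeness: the closure meets good centralizers in the cores. -/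
theorem Config.inf_centralizer (h : Config S z b) {t : G} (ht : Good S t) :
    bigW z b ⊓ Subgroup.centralizer ({t} : Set G) = θ₂ t := by
  have : Fact (Nat.Prime 2) := ⟨Nat.prime_two⟩
  obtain ⟨hti, F, hF, htF⟩ := ht
  have hclF : (⨆ a : {a : G // a ∈ F ∧ a ≠ 1}, θ₂ (a : G)) = cl θ₂ F := by
    apply le_antisymm
    · exact iSup_le fun a => le_cl a.2.1 (isInv_of_mem hF.1 a.2.1 a.2.2)
    · exact cl_le fun a ha hi =>
        le_iSup (fun a : {a : G // a ∈ F ∧ a ≠ 1} => θ₂ (a : G)) ⟨a, ha, hi.1⟩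
  have hθ := h.data
  obtain ⟨-, hcent⟩ := h.sf F (fun a ha c hc => comm_of_mem hF.1 ha hc) hF.1.2 hF.2.1 (centralizerPPrimeCore 2)
    (hθ.le_centralizer F hF.1 hF.2.1) (hθ.not_dvd F hF.1 hF.2.1)
    (fun a ha _ c hc x hx => by
      have h' := conj_mem_core c a hx
      rwa [show c * a * c⁻¹ = a by rw [comm_of_mem hF.1 hc ha, mul_inv_cancel_right]] at h')
    (hθ.solvable F hF.1 hF.2.1) (hθ.balance F hF.1 hF.2.1)
  rw [hclF, (h.cl_eight hF).1] at hcent
  exact hcent t htF hti.1

theorem Config.sylow_le (h : Config S z b) : (S : Subgroup G) ≤ bigM z b :=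
  h.four.le_normalizer.trans (normalizer_le_normalizer_cl h.data _)

/-- The conjugation of an elementary subgroup of order eight inside `S` lies in `M`. -/
theorem Config.conj_eight (h : Config S z b) {F : Subgroup G} (hF : IsEight S F) {g : G}
    (hg : F.map (MulAut.conj g).toMonoidHom ≤ (S : Subgroup G)) : g ∈ bigM z b := by
  have hF' : IsEight S (F.map (MulAut.conj g).toMonoidHom) := by
    refine ⟨⟨Uniqueness.comm_map _ hF.1.1, ?_⟩, ?_, hg⟩
    · rintro _ ⟨x, hx, rfl⟩
      rw [← map_pow, hF.1.2 x hx, map_one]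
    · rw [Subgroup.card_map_of_injective (MulAut.conj g).injective]; exact hF.2.1
  rw [bigM, Subgroup.mem_normalizer_iff_map_conj_eq]
  conv_lhs => rw [← (h.cl_eight hF).1]
  exact (map_cl h.data g F).trans (h.cl_eight hF').1

/-- A 2-subgroup of `M` is conjugate in `M` into `S`. -/
theorem Config.exists_conj (h : Config S z b) {X : Subgroup G} (hX : IsPGroup 2 X)
    (hXM : X ≤ bigM z b) :
    ∃ m ∈ bigM z b, X.map (MulAut.conj m).toMonoidHom ≤ (S : Subgroup G) := by
  have : Fact (Nat.Prime 2) := ⟨Nat.prime_two⟩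
  set M := bigM z b
  obtain ⟨Q, hQ⟩ := (hX.comap_of_injective M.subtype M.subtype_injective).exists_le_sylow
  obtain ⟨m, hm⟩ := MulAction.exists_smul_eq M Q (S.subtype h.sylow_le)
  refine ⟨m, m.2, ?_⟩
  rintro _ ⟨x, hx, rfl⟩
  have hx' : (⟨x, hXM hx⟩ : M) ∈ (Q : Subgroup M) := hQ hx
  have h1 : m * ⟨x, hXM hx⟩ * m⁻¹ ∈ ((S.subtype h.sylow_le : Sylow 2 M) : Subgroup M) := by
    rw [← hm]
    exact ⟨_, hx', rfl⟩
  rw [Sylow.coe_subtype] at h1
  exact h1

/-- The key property of `U`. -/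
theorem Config.kills (h : Config S z b) : Kills b z := by
  have : Fact (Nat.Prime 2) := ⟨Nat.prime_two⟩
  have hf := h.four
  set C := Subgroup.centralizer ({b} : Set G) with hC
  set N := (S : Subgroup G) ⊓ C with hN
  have hNC : N ≤ C := inf_le_right
  obtain ⟨T, hT⟩ := ((S.isPGroup'.to_le inf_le_left : IsPGroup 2 N).comap_of_injective C.subtype
    C.subtype_injective).exists_le_sylow
  have hzC : z ∈ C := Subgroup.mem_centralizer_singleton_iff.mpr hf.comm
  by_cases hcz : ∀ t ∈ (T : Subgroup C), (t : G) * z = z * (t : G)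
  · exact kills_of_mem hzC (mem_of_centralizes (h.con b hf.bi) T fun t ht => Subtype.ext (hcz t ht))
  push Not at hcz
  obtain ⟨x, hxT, hxz⟩ := hcz
  set T₀ := (T : Subgroup C).map C.subtype with hT₀
  have hNT : N ≤ T₀ := fun g hg => ⟨⟨g, hNC hg⟩, hT hg, rfl⟩
  have hxT₀ : (x : G) ∈ T₀ := ⟨x, hxT, rfl⟩
  have hcentral : ∀ s ∈ N, s * z = z * s := fun s hs => hf.central s hs.1
  have hxN : (x : G) ∉ N := fun hx => hxz (hcentral _ hx)
  -- the index of `N` in `T` is at most two
  have hTS : Nat.card T₀ ≤ Nat.card (S : Subgroup G) := by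
    obtain ⟨S', hS'⟩ := (T.isPGroup'.map C.subtype).exists_le_sylow
    exact (Subgroup.card_le_of_le hS').trans (le_of_eq (Nat.card_congr (S'.equiv S).toEquiv))
  have hmemN : ∀ s ∈ (S : Subgroup G), s * b * s⁻¹ = b → s ∈ N := fun s hs e =>
    ⟨hs, Subgroup.mem_centralizer_singleton_iff.mpr (mul_inv_eq_iff_eq_mul.mp e)⟩
  have hlt : Nat.card N < Nat.card T₀ := by
    refine lt_of_le_of_ne (Subgroup.card_le_of_le hNT) fun e => hxN ?_
    rw [Subgroup.eq_of_le_of_card_ge hNT e.ge]
    exact hxT₀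
  obtain ⟨y, hyS, hyb⟩ : ∃ y ∈ (S : Subgroup G), y * b * y⁻¹ ≠ b := by
    by_contra hno
    push Not at hno
    have := Subgroup.card_le_of_le (fun s hs => hmemN s hs (hno s hs) : (S : Subgroup G) ≤ N)
    omega
  have hy : y * b * y⁻¹ = z * b := (hf.conj y hyS).resolve_left hyb
  have hS2 : Nat.card (S : Subgroup G) ≤ 2 * Nat.card N := by
    classical
    have hto : ∀ s ∈ (S : Subgroup G), s * b * s⁻¹ ≠ b → y⁻¹ * s ∈ N := fun s hs hsb => by
      refine hmemN _ (mul_mem (inv_mem hyS) hs) ?_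
      calc y⁻¹ * s * b * (y⁻¹ * s)⁻¹ = y⁻¹ * (s * b * s⁻¹) * y := by group
        _ = y⁻¹ * (y * b * y⁻¹) * y := by rw [(hf.conj s hs).resolve_left hsb, hy]
        _ = b := by group
    let φ : ↥(S : Subgroup G) → ↥N ⊕ ↥N := fun f => if e : (f : G) * b * (f : G)⁻¹ = b then
      Sum.inl ⟨f, hmemN f f.2 e⟩ else Sum.inr ⟨y⁻¹ * f, hto f f.2 e⟩
    have hφ : Function.Injective φ := by
      intro a c e
      simp only [φ] at e
      split_ifs at e
      · exact Subtype.ext (congrArg Subtype.val (Sum.inl_injective e) :)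
      · exact Subtype.ext (mul_left_cancel (congrArg Subtype.val (Sum.inr_injective e) :))
    have := Nat.card_le_card_of_injective φ hφ
    rw [Nat.card_sum] at this
    omega
  have hnorm : T₀ ≤ Subgroup.normalizer (N : Set G) := by
    have hidx : (N.subgroupOf T₀).index = 2 := by
      have h1 := Subgroup.card_mul_index (N.subgroupOf T₀)
      rw [Nat.card_congr (Subgroup.subgroupOfEquivOfLe hNT).toEquiv] at h1
      have h2 : (N.subgroupOf T₀).index ≤ 2 := by
        by_contra hh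
        have : Nat.card N * 3 ≤ Nat.card T₀ := h1 ▸ Nat.mul_le_mul_left _ (by omega)
        omega
      have h3 : (N.subgroupOf T₀).index ≠ 1 := fun h' => by rw [h', mul_one] at h1; omega
      have h4 : (N.subgroupOf T₀).index ≠ 0 := Subgroup.index_ne_zero_of_finite
      omega
    exact (Subgroup.normal_subgroupOf_iff_le_normalizer hNT).mp (Subgroup.normal_of_index_eq_two hidx)
  -- the conjugate of `z`
  have hxb : (x : G) * b * (x : G)⁻¹ = b :=
    mul_inv_eq_iff_eq_mul.mpr (Subgroup.mem_centralizer_singleton_iff.mp x.2)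
  set z' := (x : G) * z * (x : G)⁻¹ with hz'
  have hxn := Subgroup.mem_normalizer_iff.mp (hnorm hxT₀)
  have hz'N : z' ∈ N := (hxn z).mp ⟨hf.zS, hzC⟩
  have hz'b : z' = z * b := by
    rcases hf.omega z' hz'N.1 (hf.zi.conj _) (Subgroup.mem_centralizer_singleton_iff.mp hz'N.2)
      (fun s hs hsb => by
        have hsN : (x : G)⁻¹ * s * (x : G) ∈ N := by
          rw [hxn]
          simpa [mul_assoc] using (show s ∈ N from ⟨hs, Subgroup.mem_centralizer_singleton_iff.mpr hsb⟩)
        calc s * z' = (x : G) * (((x : G)⁻¹ * s * (x : G)) * z) * (x : G)⁻¹ := by rw [hz']; group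
          _ = (x : G) * (z * ((x : G)⁻¹ * s * (x : G))) * (x : G)⁻¹ := by rw [hcentral _ hsN]
          _ = z' * s := by rw [hz']; group) with e | e | e
    · exact absurd (mul_inv_eq_iff_eq_mul.mp e) hxz
    · refine absurd ?_ hf.ne
      have h1 : (x : G) * z * (x : G)⁻¹ = (x : G) * b * (x : G)⁻¹ := by rw [← hz', e, hxb]
      exact mul_left_cancel (mul_right_cancel h1)
    · exact e
  set e := (x : G) * y with he
  have heb : e * b * e⁻¹ = z := by
    calc e * b * e⁻¹ = (x : G) * (y * b * y⁻¹) * (x : G)⁻¹ := by rw [he]; group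
      _ = z' * ((x : G) * b * (x : G)⁻¹) := by rw [hy, hz']; group
      _ = z := by rw [hz'b, hxb, mul_assoc, hf.bi.2, mul_one]
  have hez : e * z * e⁻¹ = z * b := by
    calc e * z * e⁻¹ = (x : G) * (y * z * y⁻¹) * (x : G)⁻¹ := by rw [he]; group
      _ = z' := by rw [hf.central y hyS, mul_inv_cancel_right]
      _ = z * b := hz'b
  -- `z b` lies in `O_{2',2}(C(z))`
  set Cz := Subgroup.centralizer ({z} : Set G)
  have hSC : (S : Subgroup G) ≤ Cz := fun s hs =>
    Subgroup.mem_centralizer_singleton_iff.mpr (hf.central s hs)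
  have hkz : Kills z (z * b) := by
    refine kills_of_mem (hSC hf.swap.bS) (mem_of_conj_mem (h.con z hf.zi) (S.subtype hSC)
      (z := ⟨z, hSC hf.zS⟩) ?_ (Subtype.ext hf.zi.2) (Subtype.ext hf.swap.bi.2) fun t ht => ?_)
    · exact fun c => Subtype.ext (Subgroup.mem_centralizer_singleton_iff.mp c.2)
    · rw [Sylow.coe_subtype] at ht
      rcases hf.swap.conj _ ht with e | e
      · exact Or.inl (Subtype.ext e)
      · exact Or.inr (Subtype.ext e)
  have hk := hkz.conj e⁻¹
  rwa [show e⁻¹ * z * e⁻¹⁻¹ = b by rw [← heb]; group,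
    show e⁻¹ * (z * b) * e⁻¹⁻¹ = z by rw [← hez]; group] at hk

theorem fourGroup_swap (h : Four S z b) : fourGroup z (z * b) = fourGroup z b := by
  apply le_antisymm <;> refine sup_le le_sup_left (Subgroup.zpowers_le.mpr ?_)
  · exact mul_mem (Subgroup.mem_sup_left (Subgroup.mem_zpowers z))
      (Subgroup.mem_sup_right (Subgroup.mem_zpowers b))
  · have h2 : z * (z * b) ∈ fourGroup z (z * b) := mul_mem (Subgroup.mem_sup_left (Subgroup.mem_zpowers z))
      (Subgroup.mem_sup_right (Subgroup.mem_zpowers (z * b)))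
    rwa [← mul_assoc, h.zi.2, one_mul] at h2

theorem Config.swap (h : Config S z b) : Config S z (z * b) :=
  ⟨h.ft, h.sf, h.four.swap, h.con, h.eight⟩

/-- The centralizer of `z` normalizes the closure. -/
theorem Config.centralizer_z_le (h : Config S z b) :
    Subgroup.centralizer ({z} : Set G) ≤ bigM z b := by
  have : Fact (Nat.Prime 2) := ⟨Nat.prime_two⟩
  have hf := h.four
  have hθ := h.data
  intro n hn
  have hnz : n * z * n⁻¹ = z :=
    mul_inv_eq_iff_eq_mul.mpr (Subgroup.mem_centralizer_singleton_iff.mp hn)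
  set C := Subgroup.centralizer ({z} : Set G) with hC
  have hSC : (S : Subgroup G) ≤ C := fun s hs =>
    Subgroup.mem_centralizer_singleton_iff.mpr (hf.central s hs)
  -- `U` and its conjugate lie in `M`
  have hRM : ∀ r : C, r ∈ pPrimePCore 2 C → (r : G) ∈ bigM z b := fun r hr => by
    obtain ⟨y, hy, -, hry⟩ := exists_mem_sylow (S.subtype hSC) hr
    rw [Sylow.coe_subtype] at hy
    have h1 : ((r * y⁻¹ : C) : G) ∈ bigM z b :=
      Subgroup.le_normalizer (h.core_le h.good_z.1 ⟨_, hry, rfl⟩)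
    have h2 := mul_mem h1 (h.sylow_le hy)
    simpa using h2
  have hbR : (⟨b, hSC hf.bS⟩ : C) ∈ pPrimePCore 2 C := by
    refine mem_of_conj_mem (h.con z hf.zi) (S.subtype hSC) (z := ⟨z, hSC hf.zS⟩)
      (fun c => Subtype.ext (Subgroup.mem_centralizer_singleton_iff.mp c.2)) (Subtype.ext hf.zi.2)
      (Subtype.ext hf.bi.2) fun t ht => ?_
    rw [Sylow.coe_subtype] at ht
    rcases hf.conj _ ht with e | e
    · exact Or.inl (Subtype.ext e)
    · exact Or.inr (Subtype.ext e)
  have hRn := Constrained.instNormalPPrimePCore (G := C) 2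
  have hb'M : n * b * n⁻¹ ∈ bigM z b := hRM _ (hRn.conj_mem _ hbR ⟨n, hn⟩)
  set U' := (fourGroup z b).map (MulAut.conj n).toMonoidHom with hU'
  set W' := cl θ₂ U' with hW'
  have hW'eq : (bigW z b).map (MulAut.conj n).toMonoidHom = W' := map_cl hθ n _
  obtain ⟨hU, hU4⟩ := hf.elem
  have hU'e : IsElementaryAbelian 2 U' := by
    refine ⟨Uniqueness.comm_map _ hU.1, ?_⟩
    rintro _ ⟨x, hx, rfl⟩
    rw [← map_pow, hU.2 x hx, map_one]
  have hU'c : Nat.card U' = Nat.card (fourGroup z b) :=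
    Subgroup.card_map_of_injective (MulAut.conj n).injective
  have hU'M : U' ≤ bigM z b := by
    rintro _ ⟨x, hx, rfl⟩
    show n * x * n⁻¹ ∈ _
    rcases mem_fourGroup hf.zi.2 hf.bi.2 hf.comm hx with rfl | rfl | rfl | rfl
    · simp
    · rw [hnz]; exact h.sylow_le hf.zS
    · exact hb'M
    · rw [show n * (z * b) * n⁻¹ = n * z * n⁻¹ * (n * b * n⁻¹) by group, hnz]
      exact mul_mem (h.sylow_le hf.zS) hb'M
  have hzU' : z ∈ U' := ⟨z, Subgroup.mem_sup_left (Subgroup.mem_zpowers z), hnz⟩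
  have hle : bigW z b ≤ W' := by
    refine Coprime.le_of_centralizers hU'e.1 (fun hc => ?_) hU'M
      (Uniqueness.coprime_of_isPGroup (Uniqueness.isPGroup_of_elementary hU'e) h.odd) fun a ha ha1 => ?_
    · have := Uniqueness.card_le_of_isCyclic_exp two_pos hc hU'e.2
      omega
    obtain ⟨v, hv, rfl⟩ := ha
    have hz_le : bigW z b ⊓ Subgroup.centralizer ({z} : Set G) ≤ W' :=
      (h.inf_centralizer h.good_z.1).le.trans (le_cl hzU' hf.zi)
    have key : ∀ v : G, Kills v z → v ∈ fourGroup z b → IsInv v →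
        bigW z b ⊓ Subgroup.centralizer ({n * v * n⁻¹} : Set G) ≤ W' := by
      intro v hk hvU hvi
      have hk' := hk.conj n
      rw [hnz] at hk'
      set a := n * v * n⁻¹
      have haU : a ∈ U' := ⟨v, hvU, rfl⟩
      have hzc : z ∈ Subgroup.centralizer ({a} : Set G) :=
        Subgroup.mem_centralizer_singleton_iff.mpr (comm_of_mem hU'e hzU' haU)
      set X := bigW z b ⊓ Subgroup.centralizer ({a} : Set G) with hX
      have hzX : z ∈ Subgroup.normalizer (X : Set G) := by
        rw [Subgroup.mem_normalizer_iff]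
        intro y
        have h1 := Subgroup.mem_normalizer_iff.mp (h.sylow_le hf.zS) y
        have h2 := Subgroup.mem_normalizer_iff.mp (Subgroup.le_normalizer hzc) y
        simp only [hX, Subgroup.mem_inf]
        exact and_congr h1 h2
      have hXodd : ¬ 2 ∣ Nat.card X := fun hd =>
        h.odd (hd.trans (Subgroup.card_dvd_of_le inf_le_left))
      intro x hx
      have hzN : Subgroup.zpowers z ≤ Subgroup.normalizer ((X ⊓ θ₂ a : Subgroup G) : Set G) := by
        refine Subgroup.zpowers_le.mpr (Subgroup.mem_normalizer_iff.mpr fun y => ?_)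
        have h1 := Subgroup.mem_normalizer_iff.mp hzX y
        have h2 := Subgroup.mem_normalizer_iff.mp
          (CfsgLib.Signalizer.le_normalizer_centralizerPPrimeCore (p := 2) a hzc) y
        simp only [Subgroup.mem_inf]
        exact and_congr (by simpa [Subgroup.mem_inf] using h1) h2
      have hxz : ∀ c ∈ Subgroup.zpowers z, ⁅x, c⁆ ∈ X ⊓ θ₂ a := by
        intro c hc
        obtain ⟨i, rfl⟩ := Subgroup.mem_zpowers_iff.mp hc
        rcases Int.even_or_odd i with ⟨j, rfl⟩ | ⟨j, rfl⟩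
        · rw [← two_mul, zpow_mul, zpow_two, hf.zi.2, one_zpow, commutatorElement_one_right]
          exact one_mem _
        · rw [zpow_add, zpow_mul, zpow_two, hf.zi.2, one_zpow, one_mul, zpow_one, commutatorElement_def]
          refine ⟨?_, hk' X inf_le_right hXodd hzX x hx⟩
          rw [show x * z * x⁻¹ * z⁻¹ = x * (z * x⁻¹ * z⁻¹) by group]
          exact mul_mem hx ((Subgroup.mem_normalizer_iff.mp hzX _).mp (inv_mem hx))
      obtain ⟨m, hm, hmc⟩ := Coprime.exists_mul_mem_centralizer hzN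
        (Uniqueness.coprime_of_isPGroup (BalanceNineteen.isPGroup_zpowers_of_sq
          (by rw [pow_two]; exact hf.zi.2))
          fun hd => hXodd (hd.trans (Subgroup.card_dvd_of_le inf_le_left)))
        (Or.inl (Coprime.isSolvable_zpowers z)) hxz
      have h1 : m * x ∈ W' := hz_le ⟨mul_mem hm.1.1 hx.1,
        Subgroup.mem_centralizer_singleton_iff.mpr
          ((Subgroup.mem_centralizer_iff.mp hmc z (Subgroup.mem_zpowers z)).symm)⟩
      have h2 : m ∈ W' := le_cl haU (hvi.conj n) hm.2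
      have h3 := mul_mem (inv_mem h2) h1
      rwa [inv_mul_cancel_left] at h3
    show bigW z b ⊓ Subgroup.centralizer ({n * v * n⁻¹} : Set G) ≤ W'
    rcases mem_fourGroup hf.zi.2 hf.bi.2 hf.comm hv with rfl | rfl | rfl | rfl
    · simp at ha1
    · rw [hnz]; exact hz_le
    · exact key v h.kills hv hf.bi
    · exact key (z * b) h.swap.kills hv hf.swap.bi
  rw [bigM, Subgroup.mem_normalizer_iff_map_conj_eq]
  refine (hW'eq.trans (Subgroup.eq_of_le_of_card_ge hle ?_).symm)
  rw [← hW'eq, Subgroup.card_map_of_injective (MulAut.conj n).injective]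

theorem centralizer_conj_le {M : Subgroup G} {g t : G} (hg : g ∈ M)
    (h : Subgroup.centralizer ({g * t * g⁻¹} : Set G) ≤ M) :
    Subgroup.centralizer ({t} : Set G) ≤ M := fun c hc => by
  have h1 : g * c * g⁻¹ ∈ M := h (Subgroup.mem_centralizer_singleton_iff.mpr (by
    rw [show g * c * g⁻¹ * (g * t * g⁻¹) = g * (c * t) * g⁻¹ by group,
      Subgroup.mem_centralizer_singleton_iff.mp hc]
    group))
  have h2 := mul_mem (mul_mem (inv_mem hg) h1) hg
  rwa [show g⁻¹ * (g * c * g⁻¹) * g = c by group] at h2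

theorem centralizer_le_conj {M : Subgroup G} {g t : G} (hg : g ∈ M)
    (h : Subgroup.centralizer ({t} : Set G) ≤ M) :
    Subgroup.centralizer ({g * t * g⁻¹} : Set G) ≤ M :=
  centralizer_conj_le (g := g⁻¹) (inv_mem hg)
    (by rwa [show g⁻¹ * (g * t * g⁻¹) * g⁻¹⁻¹ = t by group])

theorem Config.good_of_comm (h : Config S z b) {w : G} (hw : w ∈ (S : Subgroup G)) (hwi : IsInv w)
    (hwb : w * b = b * w) : Good S w := by
  obtain ⟨F, hF⟩ := h.eight
  obtain ⟨F', hF', hle⟩ := (h.cl_eight hF).2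
  by_cases hwU : w ∈ fourGroup z b
  · exact ⟨hwi, F', hF', hle hwU⟩
  refine ⟨hwi, _, sup_eight h.four.elem.1 h.four.elem.2 h.four.le hw hwi ?_ hwU,
    Subgroup.mem_sup_right (Subgroup.mem_zpowers w)⟩
  intro f hf
  have hwz : Commute w z := h.four.central w hw
  rcases mem_fourGroup h.four.zi.2 h.four.bi.2 h.four.comm hf with rfl | rfl | rfl | rfl
  · simp
  · exact hwz.eq.symm
  · exact hwb.symm
  · exact ((hwz.mul_right (show Commute w b from hwb)).eq).symm

/-- Good involution centralizers normalize the closure. -/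
theorem Config.centralizer_good_le (h : Config S z b) {s : G} (hs : Good S s) :
    Subgroup.centralizer ({s} : Set G) ≤ bigM z b := by
  have : Fact (Nat.Prime 2) := ⟨Nat.prime_two⟩
  have hf := h.four
  obtain ⟨hsi, F, hF, hsF⟩ := hs
  set C := Subgroup.centralizer ({s} : Set G) with hC
  have hFC : F ≤ C := fun x hx =>
    Subgroup.mem_centralizer_singleton_iff.mpr (comm_of_mem hF.1 hx hsF)
  obtain ⟨T, hT⟩ := ((Uniqueness.isPGroup_of_elementary hF.1).comap_of_injective C.subtype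
    C.subtype_injective).exists_le_sylow
  obtain ⟨S', hS'⟩ := (T.isPGroup'.map C.subtype).exists_le_sylow
  obtain ⟨g, hg⟩ := MulAction.exists_smul_eq G S' S
  have hTg : ∀ t ∈ (T : Subgroup C), g * (t : G) * g⁻¹ ∈ (S : Subgroup G) := fun t ht => by
    rw [← hg]
    exact ⟨t, hS' ⟨t, ht, rfl⟩, rfl⟩
  have hFT : ∀ x ∈ F, ∀ hx : x ∈ C, (⟨x, hx⟩ : C) ∈ (T : Subgroup C) := fun x hx _ => hT hx
  have hgM : g ∈ bigM z b := h.conj_eight hF (by
    rintro _ ⟨x, hx, rfl⟩
    exact hTg ⟨x, hFC hx⟩ (hFT x hx _))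
  set s' := g * s * g⁻¹ with hs'
  have hFg : IsEight S (F.map (MulAut.conj g).toMonoidHom) := by
    refine ⟨⟨Uniqueness.comm_map _ hF.1.1, ?_⟩, ?_, ?_⟩
    · rintro _ ⟨x, hx, rfl⟩
      rw [← map_pow, hF.1.2 x hx, map_one]
    · rw [Subgroup.card_map_of_injective (MulAut.conj g).injective]; exact hF.2.1
    · rintro _ ⟨x, hx, rfl⟩
      exact hTg ⟨x, hFC hx⟩ (hFT x hx _)
  have hs'F : s' ∈ F.map (MulAut.conj g).toMonoidHom := ⟨s, hsF, rfl⟩
  have hs'S : s' ∈ (S : Subgroup G) := hFg.2.2 hs'F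
  by_cases hz : s' = z
  · exact centralizer_conj_le hgM (by rw [← hs', hz]; exact h.centralizer_z_le)
  -- `z₀` is central in the Sylow subgroup of the centralizer
  have hz₀C : g⁻¹ * z * g ∈ C := Subgroup.mem_centralizer_singleton_iff.mpr (by
    calc g⁻¹ * z * g * s = g⁻¹ * (z * s') * g := by rw [hs']; group
      _ = g⁻¹ * (s' * z) * g := by rw [hf.central s' hs'S]
      _ = s * (g⁻¹ * z * g) := by rw [hs']; group)
  set z₀ : C := ⟨g⁻¹ * z * g, hz₀C⟩
  have hz₀T : ∀ t ∈ (T : Subgroup C), t * z₀ = z₀ * t := fun t ht => Subtype.ext (by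
    show (t : G) * (g⁻¹ * z * g) = g⁻¹ * z * g * t
    calc (t : G) * (g⁻¹ * z * g) = g⁻¹ * ((g * t * g⁻¹) * z) * g := by group
      _ = g⁻¹ * (z * (g * t * g⁻¹)) * g := by rw [hf.central _ (hTg t ht)]
      _ = g⁻¹ * z * g * t := by group)
  have hz₀R := mem_of_centralizes (h.con s hsi) T hz₀T
  have hz₀2 : z₀ * z₀ = 1 := Subtype.ext (by
    show g⁻¹ * z * g * (g⁻¹ * z * g) = 1
    rw [show g⁻¹ * z * g * (g⁻¹ * z * g) = g⁻¹ * (z * z) * g by group, hf.zi.2]
    group)
  intro n hn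
  have hOn := Constrained.instNormalPPrimeCore (G := C) 2
  have hRn := Constrained.instNormalPPrimePCore (G := C) 2
  set z₁ := (⟨n, hn⟩ : C) * z₀ * (⟨n, hn⟩ : C)⁻¹ with hz₁
  obtain ⟨y, hyT, -, hd⟩ := exists_mem_sylow T (r := z₁) (hRn.conj_mem _ hz₀R _)
  have hz₁2 : z₁ * z₁ = 1 := by
    rw [hz₁, show (⟨n, hn⟩ : C) * z₀ * (⟨n, hn⟩ : C)⁻¹ * (⟨n, hn⟩ * z₀ * (⟨n, hn⟩ : C)⁻¹)
      = ⟨n, hn⟩ * (z₀ * z₀) * (⟨n, hn⟩ : C)⁻¹ by group, hz₀2]
    group
  clear_value z₁
  have hy2 : y * y = 1 := by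
    have h1 : y * y ∈ pPrimeCore 2 C := by
      have hq : (y : C ⧸ pPrimeCore 2 C) = (z₁ : C ⧸ pPrimeCore 2 C) := by
        rw [eq_comm, ← mul_inv_eq_one, ← QuotientGroup.mk_inv, ← QuotientGroup.mk_mul]
        exact (QuotientGroup.eq_one_iff _).mpr hd
      rw [← QuotientGroup.eq_one_iff, QuotientGroup.mk_mul, hq, ← QuotientGroup.mk_mul, hz₁2,
        QuotientGroup.mk_one]
    have hb : (T : Subgroup C) ⊓ pPrimeCore 2 C = ⊥ := disjoint_iff.mp
      (Subgroup.disjoint_of_coprime_natCard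
        (Uniqueness.coprime_of_isPGroup T.isPGroup' Constrained.pPrimeCore_not_dvd))
    exact Subgroup.mem_bot.mp (hb ▸ Subgroup.mem_inf.mpr ⟨mul_mem hyT hyT, h1⟩)
  -- the odd core conjugates `z₁` to `y`
  obtain ⟨k, hkO, hk⟩ : ∃ k ∈ pPrimeCore 2 C, k * z₁ * k⁻¹ = y := by
    set d := z₁ * y⁻¹ with hdd
    have hy' : y⁻¹ = y := inv_eq_of_mul_eq_one_right hy2
    have hz₁' : z₁⁻¹ = z₁ := inv_eq_of_mul_eq_one_right hz₁2
    have hinv : z₁ * d * z₁⁻¹ = d⁻¹ := by
      rw [hdd, mul_inv_rev, inv_inv, hz₁', hy', ← mul_assoc, hz₁2, one_mul]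
    obtain ⟨m, hm⟩ : ∃ m, orderOf d = 2 * m + 1 := Nat.not_even_iff_odd.mp fun he =>
      (Constrained.pPrimeCore_not_dvd (p := 2) (G := C))
        ((even_iff_two_dvd.mp he).trans (Subgroup.orderOf_dvd_natCard _ hd))
    refine ⟨d ^ m, pow_mem hd m, ?_⟩
    have hconj : z₁ * (d ^ m)⁻¹ = d ^ m * z₁ := by
      have h1 : z₁ * d ^ m * z₁⁻¹ = (d ^ m)⁻¹ := by rw [← conj_pow, hinv, inv_pow]
      rw [← h1, hz₁', ← mul_assoc, ← mul_assoc, hz₁2, one_mul]
    calc d ^ m * z₁ * (d ^ m)⁻¹ = d ^ (2 * m) * z₁ := by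
          rw [mul_assoc, hconj, ← mul_assoc, ← pow_add, two_mul]
      _ = d⁻¹ * z₁ := by
          rw [eq_inv_of_mul_eq_one_left (a := d ^ (2 * m)) (b := d)
            (by rw [← pow_succ, ← hm, pow_orderOf_eq_one])]
      _ = y := by rw [hdd, mul_inv_rev, inv_inv, hz₁', mul_assoc, hz₁2, mul_one]
  have hkM : (k : G) ∈ bigM z b :=
    Subgroup.le_normalizer (h.core_le ⟨hsi, F, hF, hsF⟩ ⟨k, hkO, rfl⟩)
  -- transport to `S`
  set η := g * (k : G) * n * g⁻¹ with hη
  have hks : (k : G) * n * s = s * ((k : G) * n) := by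
    rw [mul_assoc, Subgroup.mem_centralizer_singleton_iff.mp hn, ← mul_assoc,
      Subgroup.mem_centralizer_singleton_iff.mp k.2, mul_assoc]
  have hηs : η * s' * η⁻¹ = s' := by
    rw [mul_inv_eq_iff_eq_mul, hη, hs']
    calc g * (k : G) * n * g⁻¹ * (g * s * g⁻¹) = g * ((k : G) * n * s) * g⁻¹ := by group
      _ = g * (s * ((k : G) * n)) * g⁻¹ := by rw [hks]
      _ = g * s * g⁻¹ * (g * (k : G) * n * g⁻¹) := by group
  set y' := g * (y : G) * g⁻¹ with hy'
  have hy'S : y' ∈ (S : Subgroup G) := hTg y hyT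
  have hηz : η * z * η⁻¹ = y' := by
    rw [hη, hy', ← hk, hz₁]
    show g * (k : G) * n * g⁻¹ * z * (g * (k : G) * n * g⁻¹)⁻¹ =
      g * ((k : G) * (n * (g⁻¹ * z * g) * n⁻¹) * (k : G)⁻¹) * g⁻¹
    group
  have hy'i : IsInv y' := hηz ▸ hf.zi.conj η
  have hs'i : IsInv s' := hsi.conj g
  have hy's : y' * s' = s' * y' := by
    rw [hy', hs', show g * (y : G) * g⁻¹ * (g * s * g⁻¹) = g * ((y : G) * s) * g⁻¹ by group,
      Subgroup.mem_centralizer_singleton_iff.mp y.2]
    group
  -- both four-groups have closure `W`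
  have hP : ∀ w : G, w ∈ (S : Subgroup G) → IsInv w → w * s' = s' * w → w * z = z * w → s' ≠ w →
      cl θ₂ (fourGroup s' w) = bigW z b := by
    intro w hwS hwi hws hwz hne
    obtain ⟨hV, hV4⟩ := pair_elementary hs'i hwi hws.symm hne
    obtain ⟨hV₀, hV₀4⟩ := pair_elementary hs'i hf.zi (hf.central s' hs'S) hz
    have hV₀W : cl θ₂ (fourGroup s' z) = bigW z b := by
      set F' := F.map (MulAut.conj g).toMonoidHom
      by_cases hzF : z ∈ F'
      · rw [(cl_elementary h.sf h.data hFg.1 hFg.2.1).2 _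
          (sup_le (Subgroup.zpowers_le.mpr hs'F) (Subgroup.zpowers_le.mpr hzF)) hV₀4]
        exact (h.cl_eight hFg).1
      · have h8 := sup_eight hFg.1 (le_trans (by norm_num) hFg.2.1) hFg.2.2 hf.zS hf.zi
          (fun f hf' => hf.central f (hFg.2.2 hf')) hzF
        rw [(cl_elementary h.sf h.data h8.1 h8.2.1).2 _
          (sup_le (Subgroup.zpowers_le.mpr (Subgroup.mem_sup_left hs'F)) le_sup_right) hV₀4]
        exact (h.cl_eight h8).1
    by_cases hzV : z ∈ fourGroup s' w
    · rcases mem_fourGroup hs'i.2 hwi.2 hws.symm hzV with e | e | e | e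
      · exact absurd e hf.zi.1
      · exact absurd e.symm hz
      · rw [← e]; exact hV₀W
      · rw [← hV₀W]
        congr 1
        apply le_antisymm <;> refine sup_le le_sup_left (Subgroup.zpowers_le.mpr ?_)
        · rw [show w = s' * z by rw [e, ← mul_assoc, hs'i.2, one_mul]]
          exact mul_mem (Subgroup.mem_sup_left (Subgroup.mem_zpowers _))
            (Subgroup.mem_sup_right (Subgroup.mem_zpowers _))
        · exact hzV
    · have h8 := sup_eight hV hV4 (sup_le (Subgroup.zpowers_le.mpr hs'S) (Subgroup.zpowers_le.mpr hwS))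
        hf.zS hf.zi (fun f hf' => hf.central f
          ((sup_le (Subgroup.zpowers_le.mpr hs'S) (Subgroup.zpowers_le.mpr hwS) :
            fourGroup s' w ≤ (S : Subgroup G)) hf')) hzV
      rw [(cl_elementary h.sf h.data h8.1 h8.2.1).2 _ le_sup_left hV4]
      exact (h.cl_eight h8).1
  have hne : s' ≠ y' := fun e => hz (by
    have h1 : η * s' * η⁻¹ = η * z * η⁻¹ := by rw [hηs, hηz, e]
    exact mul_left_cancel (mul_right_cancel h1))
  have hηM : η ∈ bigM z b := by
    rw [bigM, Subgroup.mem_normalizer_iff_map_conj_eq]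
    conv_lhs => rw [← hP z hf.zS hf.zi (hf.central s' hs'S).symm rfl hz]
    refine (map_cl h.data η _).trans ?_
    rw [← hP y' hy'S hy'i hy's (hf.central y' hy'S) hne, fourGroup, fourGroup, Subgroup.map_sup,
      MonoidHom.map_zpowers, MonoidHom.map_zpowers]
    congr 2
    · exact congrArg Subgroup.zpowers hηs
    · exact congrArg Subgroup.zpowers hηz
  have h1 := mul_mem (mul_mem (inv_mem hgM) hηM) hgM
  rw [show g⁻¹ * η * g = (k : G) * n by rw [hη]; group] at h1
  have h2 := mul_mem (inv_mem hkM) h1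
  rwa [inv_mul_cancel_left] at h2

theorem exists_good_conj (hno : ∀ H : Subgroup G, H.index ≠ 2) (h3 : ¬ PRankLE 2 2 G) {t : G}
    (ht : IsInv t) :
    ∃ F : Subgroup G, IsElementaryAbelian 2 F ∧ 2 ^ 3 ≤ Nat.card F ∧ t ∈ F := by
  have : Fact (Nat.Prime 2) := ⟨Nat.prime_two⟩
  obtain ⟨E, hE, hE8⟩ : ∃ E : Subgroup G, Nat.card E = 8 ∧ ∀ e ∈ E, e ^ 2 = 1 := by
    unfold PRankLE at h3
    push Not at h3
    obtain ⟨B, hBc, hBe, hBk⟩ := h3
    have hB : IsPGroup 2 B := Uniqueness.isPGroup_of_elementary ⟨hBc, hBe⟩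
    obtain ⟨k, hk⟩ := IsPGroup.iff_card.mp hB
    rw [hk] at hBk
    have hk3 : 3 ≤ k := by
      by_contra hh
      have : 2 ^ k ≤ 2 ^ 2 := Nat.pow_le_pow_right two_pos (by omega)
      omega
    obtain ⟨B', hB'⟩ := Sylow.exists_subgroup_card_pow_prime_of_le_card (n := 3)
      Nat.prime_two hB (hk ▸ Nat.pow_le_pow_right two_pos hk3)
    exact ⟨B'.map B.subtype, by
      rw [Subgroup.card_map_of_injective B.subtype_injective, hB']; norm_num,
      fun e he => by obtain ⟨e', -, rfl⟩ := he; exact hBe _ e'.2⟩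
  obtain ⟨R, hRC, hR8, hRe⟩ := CfsgLib.Involution.two_rank_three_centralizer hno ⟨E, hE, hE8⟩ t
    ht.orderOf
  have hR : IsElementaryAbelian 2 R := ⟨IsMulCommutative.of_comm fun a c => Subtype.ext (by
    have ha : ((a : G))⁻¹ = a := inv_eq_of_mul_eq_one_right (by rw [← pow_two]; exact hRe _ a.2)
    have hc : ((c : G))⁻¹ = c := inv_eq_of_mul_eq_one_right (by rw [← pow_two]; exact hRe _ c.2)
    have hac : ((a : G) * c)⁻¹ = a * c :=
      inv_eq_of_mul_eq_one_right (by rw [← pow_two]; exact hRe _ (mul_mem a.2 c.2))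
    rw [mul_inv_rev, ha, hc] at hac
    exact hac.symm), hRe⟩
  refine ⟨R ⊔ Subgroup.zpowers t, Uniqueness.elementary_sup hR
    (BalanceNineteen.elementary_of_involution ht.2) fun a ha c hc => ?_, ?_,
    Subgroup.mem_sup_right (Subgroup.mem_zpowers t)⟩
  · obtain ⟨j, rfl⟩ := Subgroup.mem_zpowers_iff.mp hc
    exact (show Commute a t from Subgroup.mem_centralizer_singleton_iff.mp (hRC ha)).zpow_right j
  · exact le_trans (by rw [hR8]; norm_num) (Subgroup.card_le_of_le le_sup_left)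

/-- All involution centralizers of `S` normalize the closure. -/
theorem Config.centralizer_le (h : Config S z b) (hno : ∀ H : Subgroup G, H.index ≠ 2)
    (h3 : ¬ PRankLE 2 2 G) {t : G} (htS : t ∈ (S : Subgroup G)) (ht : IsInv t) :
    Subgroup.centralizer ({t} : Set G) ≤ bigM z b := by
  have : Fact (Nat.Prime 2) := ⟨Nat.prime_two⟩
  have hf := h.four
  by_cases hgood : Good S t
  · exact h.centralizer_good_le hgood
  have htb : t * b ≠ b * t := fun e => hgood (h.good_of_comm htS ht e)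
  have htz : Commute t z := hf.central t htS
  obtain ⟨F, hF, hFc, htF⟩ := exists_good_conj hno h3 ht
  set C := Subgroup.centralizer ({t} : Set G) with hC
  obtain ⟨T, hT⟩ := ((S.isPGroup'.to_le (inf_le_left : (S : Subgroup G) ⊓ C ≤ S)).comap_of_injective
    C.subtype C.subtype_injective).exists_le_sylow
  obtain ⟨T', hT'⟩ := ((Uniqueness.isPGroup_of_elementary hF).comap_of_injective C.subtype
    C.subtype_injective).exists_le_sylow
  obtain ⟨c, hc⟩ := MulAction.exists_smul_eq C T' T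
  obtain ⟨S', hS'⟩ := (T.isPGroup'.map C.subtype).exists_le_sylow
  obtain ⟨g, hg⟩ := MulAction.exists_smul_eq G S' S
  have hTg : ∀ x ∈ (T : Subgroup C), g * (x : G) * g⁻¹ ∈ (S : Subgroup G) := fun x hx => by
    rw [← hg]
    exact ⟨x, hS' ⟨x, hx, rfl⟩, rfl⟩
  have hFC : F ≤ C := fun x hx =>
    Subgroup.mem_centralizer_singleton_iff.mpr (comm_of_mem hF hx htF)
  set j := g * (c : G)
  have hjt : j * t * j⁻¹ = g * t * g⁻¹ := by
    rw [show j * t * j⁻¹ = g * ((c : G) * t * (c : G)⁻¹) * g⁻¹ by simp only [j]; group,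
      mul_inv_eq_iff_eq_mul.mpr (Subgroup.mem_centralizer_singleton_iff.mp c.2)]
  have hFj : F.map (MulAut.conj j).toMonoidHom ≤ (S : Subgroup G) := by
    rintro _ ⟨x, hx, rfl⟩
    have h1 : c * ⟨x, hFC hx⟩ * c⁻¹ ∈ (T : Subgroup C) := by
      rw [← hc]
      exact ⟨_, hT' hx, rfl⟩
    have h2 := hTg _ h1
    show j * x * j⁻¹ ∈ _
    rw [show j * x * j⁻¹ = g * ((c : G) * x * (c : G)⁻¹) * g⁻¹ by simp only [j]; group]
    exact h2
  have hgood' : Good S (g * t * g⁻¹) := by
    refine ⟨ht.conj g, _, ⟨⟨Uniqueness.comm_map _ hF.1, ?_⟩, ?_, hFj⟩, ⟨t, htF, hjt⟩⟩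
    · rintro _ ⟨x, hx, rfl⟩
      rw [← map_pow, hF.2 x hx, map_one]
    · rw [Subgroup.card_map_of_injective (MulAut.conj j).injective]; exact hFc
  -- `z` is a square in the centralizer of `t`
  obtain ⟨hV, hV4⟩ := pair_elementary ht hf.zi htz.eq fun e => htb (by rw [e]; exact hf.comm)
  set V := Subgroup.zpowers t ⊔ Subgroup.zpowers z
  have hVS : V ≤ (S : Subgroup G) :=
    sup_le (Subgroup.zpowers_le.mpr htS) (Subgroup.zpowers_le.mpr hf.zS)
  have hnoinv : ∀ d ∈ (S : Subgroup G), d * t = t * d → IsInv d → d ∈ V := by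
    intro d hd hdt hdi
    by_contra hdV
    refine hgood ⟨ht, _, sup_eight hV hV4 hVS hd hdi (fun f hf' => ?_) hdV,
      Subgroup.mem_sup_left (Subgroup.mem_sup_left (Subgroup.mem_zpowers t))⟩
    have hle : V ≤ Subgroup.centralizer ({d} : Set G) :=
      sup_le (Subgroup.zpowers_le.mpr (Subgroup.mem_centralizer_singleton_iff.mpr hdt.symm))
        (Subgroup.zpowers_le.mpr (Subgroup.mem_centralizer_singleton_iff.mpr (hf.central d hd).symm))
    exact Subgroup.mem_centralizer_singleton_iff.mp (hle hf')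
  obtain ⟨q, hqS, hqt, hqz⟩ : ∃ q ∈ (S : Subgroup G), q * t = t * q ∧ q * q = z := by
    obtain ⟨d, hdS, hdt, hdV⟩ : ∃ d ∈ (S : Subgroup G), d * t = t * d ∧ d ∉ V := by
      by_contra hno'
      push Not at hno'
      obtain ⟨F₀, hF₀, hF₀c, hF₀S⟩ := h.eight
      have htord : orderOf (⟨t, htS⟩ : (S : Subgroup G)) = 2 := by
        rw [← Subgroup.orderOf_coe]; exact ht.orderOf
      have hcard : Nat.card (Subgroup.centralizer ({(⟨t, htS⟩ : (S : Subgroup G))} :
          Set (S : Subgroup G))) = 4 := by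
        have heq : Subgroup.centralizer ({(⟨t, htS⟩ : (S : Subgroup G))} : Set (S : Subgroup G)) =
            V.subgroupOf (S : Subgroup G) := by
          ext d
          rw [Subgroup.mem_centralizer_singleton_iff, Subgroup.mem_subgroupOf]
          refine ⟨fun e => hno' d d.2 (congrArg Subtype.val e), fun e => Subtype.ext ?_⟩
          exact comm_of_mem hV e (Subgroup.mem_sup_left (Subgroup.mem_zpowers t))
        rw [heq, Nat.card_congr (Subgroup.subgroupOfEquivOfLe hVS).toEquiv]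
        refine le_antisymm ?_ hV4
        classical
        have hsub : (V : Set G) ⊆ ({1, t, z, t * z} : Finset G) := fun u hu => by
          rcases mem_fourGroup ht.2 hf.zi.2 htz.eq hu with rfl | rfl | rfl | rfl <;> simp
        have h1 := Set.ncard_le_ncard hsub (Finset.finite_toSet _)
        rw [Set.ncard_coe_finset, ← Nat.card_coe_set_eq] at h1
        exact h1.trans Finset.card_le_four
      obtain ⟨M₀, hM₀i, hM₀c, -⟩ := SelfCentralizingFour.exists_cyclic_index_two _ _ rfl S.isPGroup' _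
        htord hcard (le_trans hF₀c (Subgroup.card_le_of_le hF₀S))
      set F' := F₀.subgroupOf (S : Subgroup G) with hF'
      have hF'c : 2 ^ 3 ≤ Nat.card F' := by
        rwa [hF', Nat.card_congr (Subgroup.subgroupOfEquivOfLe hF₀S).toEquiv]
      have h1 : Nat.card ↥(M₀ ⊓ F') ≤ 2 := by
        refine Uniqueness.card_le_of_isCyclic_exp two_pos ?_ ?_
        · exact isCyclic_of_injective (Subgroup.inclusion (inf_le_left : M₀ ⊓ F' ≤ M₀))
            (Subgroup.inclusion_injective _)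
        · intro x hx
          exact Subtype.ext (by simpa using hF₀.2 _ hx.2)
      have h2 : M₀.relIndex F' ≤ 2 := by
        have hM₀n : M₀.Normal := Subgroup.normal_of_index_eq_two hM₀i
        exact (Nat.le_of_dvd (Nat.pos_of_ne_zero Subgroup.index_ne_zero_of_finite)
          (Subgroup.relIndex_dvd_index_of_normal M₀ F')).trans hM₀i.le
      have h3 := Subgroup.card_mul_index ((M₀ ⊓ F').subgroupOf F')
      rw [Nat.card_congr (Subgroup.subgroupOfEquivOfLe inf_le_right).toEquiv,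
        show ((M₀ ⊓ F').subgroupOf F').index = M₀.relIndex F' from Subgroup.inf_relIndex_right M₀ F'] at h3
      have := Nat.mul_le_mul h1 h2
      omega
    have hd1 : d ≠ 1 := fun e => hdV (e ▸ one_mem V)
    obtain ⟨k, hk⟩ : ∃ k, orderOf d = 2 ^ k := by
      obtain ⟨k, hk⟩ := (IsPGroup.iff_orderOf.mp S.isPGroup') ⟨d, hdS⟩
      exact ⟨k, by rw [← hk, ← Subgroup.orderOf_coe]⟩
    rcases k with - | - | k
    · exact absurd (orderOf_eq_one_iff.mp (by simpa using hk)) hd1
    · exact absurd (hnoinv d hdS hdt (isInv_of_orderOf (by simpa using hk))) hdV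
    set q := d ^ 2 ^ k
    have hq2 : orderOf (q * q) = 2 := by
      rw [← pow_add, ← mul_two, ← pow_succ, orderOf_pow' _ (by positivity), hk,
        Nat.gcd_eq_right (pow_dvd_pow 2 (by omega)), Nat.pow_div (by omega) two_pos]
      norm_num
    have hqt : q * t = t * q := ((show Commute d t from hdt).pow_left _).eq
    have hi := isInv_of_orderOf hq2
    have hqS : q ∈ (S : Subgroup G) := pow_mem hdS _
    refine ⟨q, hqS, hqt, ?_⟩
    have hmem := hnoinv _ (mul_mem hqS hqS)
      ((show Commute q t from hqt).mul_left (show Commute q t from hqt)).eq hi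
    have hqb := hf.sq_comm hqS
    rcases mem_fourGroup ht.2 hf.zi.2 htz.eq hmem with e | e | e | e
    · exact absurd e hi.1
    · exact absurd (e ▸ hqb) htb
    · exact e
    · rw [e] at hqb
      refine absurd ?_ htb
      have h1 : Commute (t * z) b := hqb
      have h2 : Commute z b := hf.comm
      have h3 := h1.mul_left h2
      rwa [mul_assoc, hf.zi.2, mul_one] at h3
  have hqT : ∀ x : C, (x : G) ∈ (S : Subgroup G) → g * (x : G) * g⁻¹ ∈ (S : Subgroup G) :=
    fun x hx => hTg x (hT ⟨hx, x.2⟩)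
  have hq' : g * q * g⁻¹ ∈ (S : Subgroup G) :=
    hqT ⟨q, Subgroup.mem_centralizer_singleton_iff.mpr hqt⟩ hqS
  have hz' : g * q * g⁻¹ * (g * q * g⁻¹) = g * z * g⁻¹ := by rw [← hqz]; group
  have hgz : Good S (g * z * g⁻¹) := by
    refine h.good_of_comm ?_ (hf.zi.conj g) ?_
    · rw [← hz']; exact mul_mem hq' hq'
    · rw [← hz']; exact hf.sq_comm hq'
  have hz'M := h.centralizer_good_le hgz
  obtain ⟨m, hm, hmS⟩ := h.exists_conj (S.isPGroup'.map (MulAut.conj g).toMonoidHom) (by
    rintro _ ⟨x, hx, rfl⟩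
    refine hz'M (Subgroup.mem_centralizer_singleton_iff.mpr ?_)
    show g * x * g⁻¹ * (g * z * g⁻¹) = g * z * g⁻¹ * (g * x * g⁻¹)
    calc g * x * g⁻¹ * (g * z * g⁻¹) = g * (x * z) * g⁻¹ := by group
      _ = g * (z * x) * g⁻¹ := by rw [hf.central x hx]
      _ = _ := by group)
  obtain ⟨F₀, hF₀⟩ := h.eight
  have hmg : m * g ∈ bigM z b := h.conj_eight hF₀ (by
    rintro _ ⟨x, hx, rfl⟩
    refine hmS ⟨g * x * g⁻¹, ⟨x, hF₀.2.2 hx, rfl⟩, ?_⟩
    show m * (g * x * g⁻¹) * m⁻¹ = m * g * x * (m * g)⁻¹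
    group)
  have hgM : g ∈ bigM z b := by
    have := mul_mem (inv_mem hm) hmg
    rwa [inv_mul_cancel_left] at this
  exact centralizer_conj_le hgM (h.centralizer_good_le hgood')

theorem Config.core_trivial (h : Config S z b) (hSE : StronglyEmbeddedCore.{u})
    (hO : oddCore G = ⊥) (hno : ∀ H : Subgroup G, H.index ≠ 2) (h3 : ¬ PRankLE 2 2 G) {t : G}
    (ht : IsInv t) : centralizerPPrimeCore 2 t = ⊥ := by
  have : Fact (Nat.Prime 2) := ⟨Nat.prime_two⟩
  set M := bigM z b
  have hS1 : (S : Subgroup G) ≠ ⊥ := fun e => by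
    have := h.four.zS
    rw [e, Subgroup.mem_bot] at this
    exact h.four.zi.1 this
  have hN : ∀ Q : Subgroup G, Q ≤ (S : Subgroup G) → Q ≠ ⊥ →
      Subgroup.normalizer (Q : Set G) ≤ M := by
    intro Q hQS hQ1 n hn
    obtain ⟨w, hwQ, hw2, -⟩ :=
      CfsgLib.LocalCharP.exists_central_orderOf_eq (S.isPGroup'.to_le hQS) hQ1
    have hwi := isInv_of_orderOf hw2
    have hw' := hQS ((Subgroup.mem_normalizer_iff.mp hn w).mp hwQ)
    obtain ⟨F, hF, hFc, hwF⟩ := exists_good_conj hno h3 hwi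
    have hCM := h.centralizer_le hno h3 (hQS hwQ) hwi
    have hCM' := h.centralizer_le hno h3 hw' (hwi.conj n)
    have hFM : F ≤ M := fun x hx => hCM
      (Subgroup.mem_centralizer_singleton_iff.mpr (comm_of_mem hF hx hwF))
    have hFM' : F.map (MulAut.conj n).toMonoidHom ≤ M := by
      rintro _ ⟨x, hx, rfl⟩
      refine hCM' (Subgroup.mem_centralizer_singleton_iff.mpr ?_)
      show n * x * n⁻¹ * (n * w * n⁻¹) = n * w * n⁻¹ * (n * x * n⁻¹)
      calc n * x * n⁻¹ * (n * w * n⁻¹) = n * (x * w) * n⁻¹ := by group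
        _ = n * (w * x) * n⁻¹ := by rw [comm_of_mem hF hx hwF]
        _ = _ := by group
    have hFp := Uniqueness.isPGroup_of_elementary hF
    obtain ⟨m, hm, hmS⟩ := h.exists_conj hFp hFM
    obtain ⟨m', hm', hm'S⟩ := h.exists_conj (hFp.map _) hFM'
    have hF8 : IsEight S (F.map (MulAut.conj m).toMonoidHom) := by
      refine ⟨⟨Uniqueness.comm_map _ hF.1, ?_⟩, ?_, hmS⟩
      · rintro _ ⟨x, hx, rfl⟩
        rw [← map_pow, hF.2 x hx, map_one]
      · rw [Subgroup.card_map_of_injective (MulAut.conj m).injective]; exact hFc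
    have h1 : m' * n * m⁻¹ ∈ M := h.conj_eight hF8 (by
      rintro _ ⟨_, ⟨x, hx, rfl⟩, rfl⟩
      refine hm'S ⟨n * x * n⁻¹, ⟨x, hx, rfl⟩, ?_⟩
      show m' * (n * x * n⁻¹) * m'⁻¹ = m' * n * m⁻¹ * (m * x * m⁻¹) * (m' * n * m⁻¹)⁻¹
      group)
    have h2 := mul_mem (mul_mem (inv_mem hm') h1) hm
    rwa [show m'⁻¹ * (m' * n * m⁻¹) * m = n by group] at h2
  have hW : bigW z b = ⊥ := by
    have hoddW : Odd (Nat.card (bigW z b)) :=
      Nat.not_even_iff_odd.mp fun e => h.odd (even_iff_two_dvd.mp e)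
    by_cases hM : M = ⊤
    · exact le_bot_iff.mp (hO ▸
        TwoComponents.le_oddCore (Subgroup.normalizer_eq_top_iff.mp hM) hoddW)
    · have hse := CfsgLib.StronglyEmbedded.intro_of_sylow hM S h.sylow_le hS1 hN
      have hWM : bigW z b ≤ M := Subgroup.le_normalizer
      have h1 : (bigW z b).subgroupOf M ≤ oddCore ↥M :=
        TwoComponents.le_oddCore ((Subgroup.normal_subgroupOf_iff_le_normalizer hWM).mpr le_rfl)
          (by rw [Nat.card_congr (Subgroup.subgroupOfEquivOfLe hWM).toEquiv]; exact hoddW)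
      refine le_bot_iff.mp (hO ▸ le_trans ?_ (hSE M hse))
      calc bigW z b = ((bigW z b).subgroupOf M).map M.subtype :=
            (Subgroup.map_subgroupOf_eq_of_le hWM).symm
        _ ≤ _ := Subgroup.map_mono h1
  obtain ⟨F, hF, hFc, htF⟩ := exists_good_conj hno h3 ht
  obtain ⟨S', hS'⟩ := (Uniqueness.isPGroup_of_elementary hF).exists_le_sylow
  obtain ⟨g, hg⟩ := MulAction.exists_smul_eq G S' S
  have hgt : Good S (g * t * g⁻¹) := by
    refine ⟨ht.conj g, _, ⟨⟨Uniqueness.comm_map (MulAut.conj g).toMonoidHom hF.1, ?_⟩, ?_, ?_⟩,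
      ⟨t, htF, rfl⟩⟩
    · rintro _ ⟨x, hx, rfl⟩
      rw [← map_pow, hF.2 x hx, map_one]
    · rw [Subgroup.card_map_of_injective (MulAut.conj g).injective]; exact hFc
    · rintro _ ⟨x, hx, rfl⟩
      rw [← hg]
      exact ⟨x, hS' hx, rfl⟩
  have h1 := h.core_le hgt
  rw [hW, core_conj, le_bot_iff] at h1
  exact (Subgroup.map_eq_bot_iff_of_injective _ (MulAut.conj g).injective).mp h1

theorem exists_four (h3 : ∃ F : Subgroup G, IsEight S F)
    (hnn : ¬ ∃ E : Subgroup G, IsEight S E ∧ (S : Subgroup G) ≤ Subgroup.normalizer (E : Set G)) :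
    ∃ z b : G, Four S z b := by
  classical
  have : Fact (Nat.Prime 2) := ⟨Nat.prime_two⟩
  obtain ⟨F, hF, hFc, hFS⟩ := h3
  set F' := F.subgroupOf (S : Subgroup G)
  obtain ⟨E, hEF, hE8⟩ := Sylow.exists_subgroup_le_card_pow_prime_of_le_card (n := 3) Nat.prime_two
    S.isPGroup' (H := F') (by rwa [Nat.card_congr (Subgroup.subgroupOfEquivOfLe hFS).toEquiv])
  obtain ⟨V, hVn, hV4, hVsq⟩ := CfsgLib.Involution.exists_normal_four S.isPGroup' E
    (by simpa using hE8) fun e he => Subtype.ext (by simpa [pow_two] using hF.2 _ (hEF he))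
  have := hVn
  obtain ⟨z, hz, hz1⟩ := (Subgroup.bot_or_exists_ne_one _).resolve_left
    (PGroup.inf_center_ne_bot S.isPGroup' V (fun h0 => by
      rw [h0, Subgroup.card_bot] at hV4; omega))
  obtain ⟨b, hb, hb1, hbz⟩ : ∃ b ∈ V, b ≠ 1 ∧ b ≠ z := by
    by_contra hc
    push Not at hc
    have hsub : (V : Set (S : Subgroup G)) ⊆ ({1, z} : Finset _) := fun w hw => by
      by_cases h1 : w = 1
      · simp [h1]
      · simp [hc w hw h1]
    have h1 := Set.ncard_le_ncard hsub (Finset.finite_toSet _)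
    rw [Set.ncard_coe_finset, ← Nat.card_coe_set_eq] at h1
    have h2 := h1.trans Finset.card_le_two
    simp only [SetLike.coe_sort_coe] at h2
    omega
  have hzi : IsInv (z : G) := ⟨fun e => hz1 (Subtype.ext e), congrArg Subtype.val (hVsq z hz.1)⟩
  have hbi : IsInv (b : G) := ⟨fun e => hb1 (Subtype.ext e), congrArg Subtype.val (hVsq b hb)⟩
  have hzc : ∀ s ∈ (S : Subgroup G), s * (z : G) = z * s := fun s hs =>
    congrArg Subtype.val (Subgroup.mem_center_iff.mp hz.2 ⟨s, hs⟩)
  have hzb : (z : G) * b = b * z := (hzc b b.2).symm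
  have hne : (z : G) ≠ b := fun e => hbz (Subtype.ext e.symm)
  have hset : ∀ w ∈ V, w = 1 ∨ w = z ∨ w = b ∨ w = z * b := by
    have hle : fourGroup (z : G) b ≤ V.map (S : Subgroup G).subtype :=
      sup_le (Subgroup.zpowers_le.mpr ⟨z, hz.1, rfl⟩) (Subgroup.zpowers_le.mpr ⟨b, hb, rfl⟩)
    have heq : fourGroup (z : G) b = V.map (S : Subgroup G).subtype := by
      refine Subgroup.eq_of_le_of_card_ge hle ?_
      rw [Subgroup.card_map_of_injective (S : Subgroup G).subtype_injective, hV4]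
      exact (pair_elementary hzi hbi hzb hne).2
    intro w hw
    rcases mem_fourGroup hzi.2 hbi.2 hzb (heq.symm ▸ ⟨w, hw, rfl⟩ : (w : G) ∈ fourGroup (z : G) b)
      with e | e | e | e
    · exact Or.inl (Subtype.ext e)
    · exact Or.inr (Or.inl (Subtype.ext e))
    · exact Or.inr (Or.inr (Or.inl (Subtype.ext e)))
    · exact Or.inr (Or.inr (Or.inr (Subtype.ext e)))
  have hconj : ∀ s ∈ (S : Subgroup G), s * b * s⁻¹ = b ∨ s * b * s⁻¹ = z * b := by
    intro s hs
    rcases hset _ (hVn.conj_mem b hb ⟨s, hs⟩) with e | e | e | e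
    · exact absurd (conj_eq_one_iff.mp e) hb1
    · refine absurd ?_ hne
      have h1 : s * b * s⁻¹ = s * z * s⁻¹ := by
        rw [hzc s hs, mul_inv_cancel_right]; exact congrArg Subtype.val e
      exact (mul_left_cancel (mul_right_cancel h1)).symm
    · exact Or.inl (congrArg Subtype.val e)
    · exact Or.inr (congrArg Subtype.val e)
  refine ⟨z, b, ⟨z.2, b.2, hzi, hbi, hne, hzc, hconj, fun w hw hwi hwb hall => ?_⟩⟩
  by_contra hcon
  push Not at hcon
  let E' : Subgroup G :=
    { carrier := {a | a ∈ (S : Subgroup G) ∧ a * a = 1 ∧ a * b = b * a ∧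
        ∀ s ∈ (S : Subgroup G), s * b = b * s → s * a = a * s}
      one_mem' := ⟨one_mem _, one_mul 1, by simp, fun s _ _ => by simp⟩
      mul_mem' := fun {a c} ha hc => by
        have hac : Commute a c := hc.2.2.2 a ha.1 ha.2.2.1
        refine ⟨mul_mem ha.1 hc.1, ?_, ((show Commute a (b : G) from ha.2.2.1).mul_left hc.2.2.1).eq,
          fun s hs hsb => ((show Commute s a from ha.2.2.2 s hs hsb).mul_right (hc.2.2.2 s hs hsb)).eq⟩
        rw [hac.symm.mul_mul_mul_comm, ha.2.1, hc.2.1, one_mul]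
      inv_mem' := fun {a} ha => by
        rw [inv_eq_of_mul_eq_one_right ha.2.1]; exact ha }
  have hE'e : IsElementaryAbelian 2 E' :=
    ⟨IsMulCommutative.of_comm fun a c => Subtype.ext (c.2.2.2.2 a a.2.1 a.2.2.2.1),
      fun x hx => by rw [pow_two]; exact hx.2.1⟩
  have hE'S : E' ≤ (S : Subgroup G) := fun x hx => hx.1
  have hU : fourGroup (z : G) b ≤ E' := sup_le
    (Subgroup.zpowers_le.mpr ⟨z.2, hzi.2, hzb, fun s hs _ => hzc s hs⟩)
    (Subgroup.zpowers_le.mpr ⟨b.2, hbi.2, rfl, fun s _ hsb => hsb⟩)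
  have hwU : w ∉ fourGroup (z : G) b := fun hm => by
    rcases mem_fourGroup hzi.2 hbi.2 hzb hm with e | e | e | e
    · exact hwi.1 e
    · exact hcon.1 e
    · exact hcon.2.1 e
    · exact hcon.2.2 e
  have hwE : w ∈ E' := ⟨hw, hwi.2, hwb, hall⟩
  refine hnn ⟨E', ⟨hE'e, ?_, hE'S⟩, Coprime.le_normalizer_of_conj_mem fun s hs a ha => ?_⟩
  · obtain ⟨hU1, hU2⟩ := pair_elementary hzi hbi hzb hne
    have h8 := sup_eight hU1 hU2 (hU.trans hE'S) hw hwi
      (fun f hf => comm_of_mem hE'e (hU hf) hwE) hwU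
    exact h8.2.1.trans (Subgroup.card_le_of_le (sup_le hU (Subgroup.zpowers_le.mpr hwE)))
  · have key : ∀ x ∈ (S : Subgroup G), x * b = b * x → s * x * s⁻¹ * b = b * (s * x * s⁻¹) := by
      intro x hx hxb
      have hxz := hzc x hx
      rcases hconj s hs with e | e
      · calc s * x * s⁻¹ * b = s * x * s⁻¹ * (s * b * s⁻¹) := by rw [e]
          _ = s * (x * b) * s⁻¹ := by group
          _ = s * (b * x) * s⁻¹ := by rw [hxb]
          _ = (s * b * s⁻¹) * (s * x * s⁻¹) := by group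
          _ = b * (s * x * s⁻¹) := by rw [e]
      · have h1 : s * x * s⁻¹ * ((z : G) * b) = (z : G) * b * (s * x * s⁻¹) := by
          rw [← e]
          calc s * x * s⁻¹ * (s * b * s⁻¹) = s * (x * b) * s⁻¹ := by group
            _ = s * (b * x) * s⁻¹ := by rw [hxb]
            _ = s * b * s⁻¹ * (s * x * s⁻¹) := by group
        have h2 := hzc _ (mul_mem (mul_mem hs hx) (inv_mem hs))
        refine mul_left_cancel (a := (z : G)) ?_
        calc (z : G) * (s * x * s⁻¹ * b) = ((z : G) * (s * x * s⁻¹)) * b := by simp only [mul_assoc]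
          _ = s * x * s⁻¹ * ((z : G) * b) := by rw [← h2]; simp only [mul_assoc]
          _ = (z : G) * (b * (s * x * s⁻¹)) := by rw [h1]; simp only [mul_assoc]
    refine ⟨mul_mem (mul_mem hs ha.1) (inv_mem hs), ?_, key a ha.1 ha.2.2.1, fun x hx hxb => ?_⟩
    · rw [show s * a * s⁻¹ * (s * a * s⁻¹) = s * (a * a) * s⁻¹ by group, ha.2.1]; group
    · have hx' : (s⁻¹ * x * s) * b = b * (s⁻¹ * x * s) := by
        rcases hconj s hs with e | e
        · calc s⁻¹ * x * s * b = s⁻¹ * (x * (s * b * s⁻¹)) * s := by group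
            _ = s⁻¹ * (x * b) * s := by rw [e]
            _ = s⁻¹ * (b * x) * s := by rw [hxb]
            _ = s⁻¹ * ((s * b * s⁻¹) * x) * s := by rw [e]
            _ = b * (s⁻¹ * x * s) := by group
        · calc s⁻¹ * x * s * b = s⁻¹ * (x * (s * b * s⁻¹)) * s := by group
            _ = s⁻¹ * (x * ((z : G) * b)) * s := by rw [e]
            _ = s⁻¹ * ((z : G) * b * x) * s := by
              rw [← mul_assoc x, hzc x hx, mul_assoc (z : G) x, hxb]; simp only [mul_assoc]
            _ = s⁻¹ * ((s * b * s⁻¹) * x) * s := by rw [e]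
            _ = b * (s⁻¹ * x * s) := by group
      have h1 := ha.2.2.2 _ (mul_mem (mul_mem (inv_mem hs) hx) hs) hx'
      calc x * (s * a * s⁻¹) = s * ((s⁻¹ * x * s) * a) * s⁻¹ := by group
        _ = s * (a * (s⁻¹ * x * s)) * s⁻¹ := by rw [h1]
        _ = s * a * s⁻¹ * x := by group

/-- The shape of S1296. -/
theorem dichotomy (hFT : BalanceNineteen.OddOrderSolvable.{u})
    (hSF : BalanceNineteen.SignalizerFunctorTheorem.{u}) (hSE : StronglyEmbeddedCore.{u})
    (hno : ∀ N : Subgroup G, N.Normal → N.index ≠ 2) (hO : oddCore G = ⊥) :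
    PRankLE 2 2 G ∨ IsComponentType G ∨
      (Even (Nat.card G) → IsCharacteristicTwoType G) := by
  have : Fact (Nat.Prime 2) := ⟨Nat.prime_two⟩
  by_cases h3 : PRankLE 2 2 G
  · exact Or.inl h3
  by_cases hct : IsComponentType G
  · exact Or.inr (Or.inl hct)
  refine Or.inr (Or.inr fun h2 => isCharacteristicTwoType_of_centralizers h2 fun t ht => ?_)
  have hti := isInv_of_orderOf ht
  have hc : AllConstrained G := fun t ht =>
    isPConstrained_of_not_hasComponent fun h => hct ⟨t, ht.orderOf, h⟩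
  have hno' : ∀ H : Subgroup G, H.index ≠ 2 := fun H h =>
    hno H (Subgroup.normal_of_index_eq_two h) h
  suffices hcore : centralizerPPrimeCore 2 t = ⊥ by
    rw [centralizerPPrimeCore, Subgroup.map_eq_bot_iff_of_injective _ (Subgroup.subtype_injective _)]
      at hcore
    exact (Constrained.isPConstrained_iff_of_pPrimeCore_eq_bot hcore).mp (hc t hti)
  obtain ⟨S⟩ : Nonempty (Sylow 2 G) := inferInstance
  by_cases hn : ∃ E : Subgroup G, IsEight S E ∧ (S : Subgroup G) ≤ Subgroup.normalizer (E : Set G)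
  · obtain ⟨E, ⟨hE, hEc, hES⟩, hSE'⟩ := hn
    exact centralizerPPrimeCore_eq_bot hFT hSF hSE hO hE hEc hES hSE' (fun s hs => hc s hs) hti
  obtain ⟨F, hF, hFc, -⟩ := exists_good_conj hno' h3 hti
  obtain ⟨S', hS'⟩ := (Uniqueness.isPGroup_of_elementary hF).exists_le_sylow
  obtain ⟨g, hg⟩ := MulAction.exists_smul_eq G S' S
  have h8 : IsEight S (F.map (MulAut.conj g).toMonoidHom) := by
    refine ⟨⟨Uniqueness.comm_map _ hF.1, ?_⟩, ?_, ?_⟩
    · rintro _ ⟨x, hx, rfl⟩
      rw [← map_pow, hF.2 x hx, map_one]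
    · rw [Subgroup.card_map_of_injective (MulAut.conj g).injective]; exact hFc
    · rintro _ ⟨x, hx, rfl⟩
      rw [← hg]
      exact ⟨x, hS' hx, rfl⟩
  obtain ⟨z, b, hfour⟩ := exists_four ⟨_, h8⟩ hn
  exact Config.core_trivial ⟨hFT, hSF, hfour, hc, ⟨_, h8⟩⟩ hSE hO hno' h3 hti

end CfsgLib.SignalizerMethod.Dichotomy89
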